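import Cfsg.Agent.Lib.ZStar.Main
import Cfsg.Agent.Lib.PSolvable.Core
import Cfsg.Agent.Lib.Fitting.Basic
import Cfsg.Agent.Lib.RealDegree.Main
import Cfsg.Agent.Lib.SmallTwo.WreathedAut
import Cfsg.Agent.Lib.OddOrder.Solvable

/-!
# Groups in which two Sylow two-subgroups meet in a cyclic group: generalities
-/

set_option autoImplicit false
set_option linter.unusedSectionVars false
set_option linter.style.haveILetI false

namespace CfsgLib.CyclicMeet

open Cfsg
open scoped Pointwise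

/-- Two distinct Sylow two-subgroups meet in a cyclic group. -/
def CI (G : Type*) [Group G] : Prop :=
  ∀ S T : Sylow 2 G, S ≠ T → IsCyclic ↥((S : Subgroup G) ⊓ (T : Subgroup G))

variable {G : Type*} [Group G]

theorem cyclic_of_le {X Y : Subgroup G} (h : X ≤ Y) (hY : IsCyclic Y) : IsCyclic X :=
  haveI := hY
  isCyclic_of_injective (Subgroup.inclusion h) (Subgroup.inclusion_injective h)

theorem cyclic_map {Q : Type*} [Group Q] (f : G →* Q) {X : Subgroup G} (hX : IsCyclic X) :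
    IsCyclic ↥(X.map f) :=
  haveI := hX
  isCyclic_of_surjective (f.subgroupMap X) (f.subgroupMap_surjective X)

theorem cyclic_of_map {Q : Type*} [Group Q] (f : G →* Q) {X : Subgroup G}
    (hinj : Set.InjOn f X) (hX : IsCyclic ↥(X.map f)) : IsCyclic X :=
  haveI := hX
  isCyclic_of_injective (f.subgroupMap X) fun a b h =>
    Subtype.ext (hinj a.2 b.2 (congrArg Subtype.val h))

theorem invol_eq_of_cyclic [Finite G] {X : Subgroup G} (hX : IsCyclic X) {a b : G} (ha : a ∈ X)
    (hb : b ∈ X) (ha2 : a * a = 1) (hb2 : b * b = 1) (ha1 : a ≠ 1) (hb1 : b ≠ 1) : a = b := by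
  classical
  haveI := hX
  haveI := Fintype.ofFinite X
  by_contra hab
  have h1 : ({1, ⟨a, ha⟩, ⟨b, hb⟩} : Finset X) ⊆ Finset.univ.filter fun x : X => x ^ 2 = 1 := by
    intro x hx
    simp only [Finset.mem_insert, Finset.mem_singleton] at hx
    refine Finset.mem_filter.mpr ⟨Finset.mem_univ x, ?_⟩
    rcases hx with rfl | rfl | rfl
    · exact one_pow 2
    · exact Subtype.ext (by simpa [pow_two] using ha2)
    · exact Subtype.ext (by simpa [pow_two] using hb2)
  have h2 : ({1, ⟨a, ha⟩, ⟨b, hb⟩} : Finset X).card = 3 := by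
    refine Finset.card_eq_three.mpr ⟨1, ⟨a, ha⟩, ⟨b, hb⟩, ?_, ?_, ?_, rfl⟩
    · exact fun e => ha1 (congrArg Subtype.val e).symm
    · exact fun e => hb1 (congrArg Subtype.val e).symm
    · exact fun e => hab (congrArg Subtype.val e)
  have h3 := (Finset.card_le_card h1).trans (IsCyclic.card_pow_eq_one_le (α := X) two_pos)
  omega

theorem odd_orderOf_of_mem {N : Subgroup G} (hN : (Nat.card N).Coprime 2) {x : G} (hx : x ∈ N) :
    Odd (orderOf x) :=
  (Nat.coprime_two_right.mp hN).of_dvd_nat (N.orderOf_dvd_natCard hx)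

theorem eq_one_of_two_odd {x : G} {k : ℕ} (h : orderOf x = 2 ^ k) (ho : Odd (orderOf x)) :
    x = 1 := by
  rcases k with _ | k
  · exact orderOf_eq_one_iff.mp (by simpa using h)
  · rw [h] at ho
    exact absurd ho (Nat.not_odd_iff_even.mpr (Nat.even_pow.mpr ⟨even_two, Nat.succ_ne_zero k⟩))

theorem two_pow_of_mem {P : Subgroup G} (hP : IsPGroup 2 P) {x : G} (hx : x ∈ P) :
    ∃ k : ℕ, orderOf x = 2 ^ k := by
  haveI : Fact (Nat.Prime 2) := ⟨Nat.prime_two⟩
  obtain ⟨k, hk⟩ := IsPGroup.iff_orderOf.mp hP ⟨x, hx⟩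
  exact ⟨k, by rw [← hk, Subgroup.orderOf_mk]⟩

/-- A subgroup with the two-parts and the odd parts of an element contains it. -/
theorem mem_of_parts [Finite G] (H : Subgroup G) (n : G)
    (h2 : ∀ m : ℕ, (∃ k : ℕ, orderOf (n ^ m) = 2 ^ k) → n ^ m ∈ H)
    (hodd : ∀ m : ℕ, Odd (orderOf (n ^ m)) → n ^ m ∈ H) : n ∈ H := by
  obtain ⟨k, r, hr, hkr⟩ := Nat.exists_eq_pow_mul_and_not_dvd (orderOf_pos n).ne' 2 (by norm_num)
  have hr0 : r ≠ 0 := by rintro rfl; exact hr (dvd_zero 2)
  have hro : Odd r := Nat.odd_iff.mpr (Nat.two_dvd_ne_zero.mp hr)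
  have e1 : orderOf (n ^ r) = 2 ^ k := by
    rw [orderOf_pow' n hr0, hkr, Nat.gcd_eq_right (Dvd.intro_left _ rfl),
      Nat.mul_div_cancel _ (Nat.pos_of_ne_zero hr0)]
  have e2 : orderOf (n ^ (2 ^ k)) = r := by
    rw [orderOf_pow' n (by positivity), hkr, Nat.gcd_eq_right (Dvd.intro _ rfl),
      Nat.mul_div_cancel_left _ (by positivity)]
  have hm1 := h2 r ⟨k, e1⟩
  have hm2 := hodd (2 ^ k) (e2.symm ▸ hro)
  have hg : Nat.gcd r (2 ^ k) = 1 := (Nat.coprime_two_right.mpr hro).pow_right k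
  have hb := Nat.gcd_eq_gcd_ab r (2 ^ k)
  rw [hg, Nat.cast_one] at hb
  have e : n = (n ^ r) ^ (Nat.gcdA r (2 ^ k)) * (n ^ (2 ^ k)) ^ (Nat.gcdB r (2 ^ k)) := by
    rw [← zpow_natCast n r, ← zpow_natCast n (2 ^ k), ← zpow_mul, ← zpow_mul, ← zpow_add, ← hb,
      zpow_one]
  rw [e]
  exact mul_mem (zpow_mem hm1 _) (zpow_mem hm2 _)

section Finite

variable [Finite G]

theorem CI.subgroup (h : CI G) (H : Subgroup G) : CI H := by
  intro S T hne
  obtain ⟨S', hS'⟩ := (S.isPGroup'.map H.subtype).exists_le_sylow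
  obtain ⟨T', hT'⟩ := (T.isPGroup'.map H.subtype).exists_le_sylow
  have key : ∀ (X : Sylow 2 H) (X' : Sylow 2 G), (X : Subgroup H).map H.subtype ≤ X' →
      (X' : Subgroup G).comap H.subtype = X := fun X X' hX =>
    X.is_maximal' (X'.isPGroup'.comap_of_injective H.subtype H.subtype_injective)
      (Subgroup.map_le_iff_le_comap.mp hX)
  have hne' : S' ≠ T' := fun e => hne (Sylow.ext (by rw [← key S S' hS', ← key T T' hT', e]))
  refine cyclic_of_map H.subtype H.subtype_injective.injOn (cyclic_of_le ?_ (h S' T' hne'))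
  exact le_inf ((Subgroup.map_mono inf_le_left).trans hS') ((Subgroup.map_mono inf_le_right).trans hT')

theorem CI.map (h : CI G) {Q : Type*} [Group Q] (f : G →* Q) (hf : Function.Surjective f) :
    CI Q := by
  haveI : Fact (Nat.Prime 2) := ⟨Nat.prime_two⟩
  haveI : Finite Q := Finite.of_surjective f hf
  intro Sb Tb hne
  obtain ⟨S, rfl⟩ := Sylow.mapSurjective_surjective hf 2 Sb
  obtain ⟨T, rfl⟩ := Sylow.mapSurjective_surjective hf 2 Tb
  set X : Subgroup G := ((T : Subgroup G).map f).comap f with hX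
  set D : Subgroup G := (S : Subgroup G) ⊓ X with hD
  have hDX : D ≤ X := inf_le_right
  have hTX : (T : Subgroup G) ≤ X := Subgroup.le_comap_map f T
  have hD2 : IsPGroup 2 (D.subgroupOf X) :=
    (S.isPGroup'.to_le inf_le_left).comap_of_injective X.subtype X.subtype_injective
  obtain ⟨U, hU⟩ := hD2.exists_le_sylow
  obtain ⟨x, hx⟩ := MulAction.exists_smul_eq X (T.subtype hTX) U
  have hDle : D ≤ ((x : G) • T : Sylow 2 G) := by
    intro d hd
    have h1 : (⟨d, hDX hd⟩ : X) ∈ ((x • T.subtype hTX : Sylow 2 X) : Subgroup X) :=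
      hx.symm ▸ hU hd
    obtain ⟨y, hy, hyd⟩ := h1
    exact ⟨(y : G), hy, congrArg Subtype.val hyd⟩
  have himg : ((((x : G) • T : Sylow 2 G)) : Subgroup G).map f = (T : Subgroup G).map f := by
    show (MulAut.conj (x : G) • (T : Subgroup G)).map f = _
    rw [Coprime.map_conj_smul]
    exact Coprime.conj_smul_eq_self_of_mem_normalizer (Subgroup.le_normalizer x.2)
  have hne' : S ≠ ((x : G) • T : Sylow 2 G) := fun e => hne (Sylow.ext (by
    rw [Sylow.coe_mapSurjective, Sylow.coe_mapSurjective, ← himg, ← e]))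
  refine cyclic_of_le ?_ (cyclic_map f (cyclic_of_le (le_inf inf_le_left hDle) (h _ _ hne')))
  intro y hy
  rw [Sylow.coe_mapSurjective, Sylow.coe_mapSurjective, Subgroup.mem_inf] at hy
  obtain ⟨⟨s, hs, rfl⟩, h2⟩ := hy
  exact ⟨s, Subgroup.mem_inf.mpr ⟨hs, h2⟩, rfl⟩

theorem pCore_le_sylow (S : Sylow 2 G) : pCore 2 G ≤ (S : Subgroup G) := by
  haveI : Fact (Nat.Prime 2) := ⟨Nat.prime_two⟩
  haveI := Fitting.pCore_normal (G := G) 2
  have h1 : pCore 2 G ⊔ (S : Subgroup G) = (S : Subgroup G) :=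
    S.is_maximal' ((Fitting.pCore_isPGroup 2).to_sup_of_normal_left S.isPGroup') le_sup_right
  exact h1 ▸ le_sup_left

/-- With a normal Sylow two-subgroup the group is solvable. -/
theorem isSolvable_of_sylow_normal (S : Sylow 2 G) [(S : Subgroup G).Normal] :
    Group.IsSolvable G := by
  haveI : Fact (Nat.Prime 2) := ⟨Nat.prime_two⟩
  haveI : Group.IsNilpotent (S : Subgroup G) := S.isPGroup'.isNilpotent
  haveI : Group.IsSolvable (G ⧸ (S : Subgroup G)) := OddOrder.odd_order_solvable (by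
    rw [← Subgroup.index_eq_card]
    exact Nat.odd_iff.mpr (Nat.two_dvd_ne_zero.mp S.not_dvd_index))
  exact Group.isSolvable_of_ker_le_range (S : Subgroup G).subtype
    (QuotientGroup.mk' (S : Subgroup G))
    (by rw [QuotientGroup.ker_mk', Subgroup.range_subtype])

theorem exists_ne_sylow (hns : ¬ Group.IsSolvable G) (S : Sylow 2 G) : ∃ T : Sylow 2 G, S ≠ T := by
  by_contra h
  push Not at h
  haveI : Subsingleton (Sylow 2 G) := ⟨fun a b => (h a).symm.trans (h b)⟩
  haveI := Sylow.normal_of_subsingleton S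
  exact hns (isSolvable_of_sylow_normal S)

theorem pCore_cyclic_of_ne (h : CI G) {S T : Sylow 2 G} (hne : S ≠ T) : IsCyclic ↥(pCore 2 G) :=
  cyclic_of_le (le_inf (pCore_le_sylow S) (pCore_le_sylow T)) (h S T hne)

theorem pCore_quotient_pCore [(pCore 2 G).Normal] : pCore 2 (G ⧸ pCore 2 G) = ⊥ := by
  haveI : Fact (Nat.Prime 2) := ⟨Nat.prime_two⟩
  set π := QuotientGroup.mk' (pCore 2 G)
  have hπ := QuotientGroup.mk'_surjective (pCore 2 G)
  haveI := Fitting.pCore_normal (G := G ⧸ pCore 2 G) 2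
  have hX : IsPGroup 2 ((pCore 2 (G ⧸ pCore 2 G)).comap π) :=
    (Fitting.pCore_isPGroup 2).comap_of_ker_isPGroup π
      (by rw [QuotientGroup.ker_mk']; exact Fitting.pCore_isPGroup 2)
  have h1 := Subgroup.map_mono (f := π) (Fitting.le_pCore (p := 2) inferInstance hX)
  rw [Subgroup.map_comap_eq_self_of_surjective hπ, QuotientGroup.map_mk'_self] at h1
  exact le_bot_iff.mp h1

theorem odd_mem_centralizer (V : Subgroup G) [V.Normal] (hV : IsPGroup 2 V) (hc : IsCyclic V)
    {x : G} (hx : Odd (orderOf x)) : x ∈ Subgroup.centralizer (V : Set G) := by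
  haveI : Fact (Nat.Prime 2) := ⟨Nat.prime_two⟩
  obtain ⟨k, hk⟩ :=
    IsPGroup.iff_orderOf.mp (SmallTwo.isPGroup_mulAut_cyclic hV hc) (MulAut.conjNormal x)
  have h1 : (MulAut.conjNormal x : MulAut V) = 1 :=
    eq_one_of_two_odd hk (hx.of_dvd_nat (orderOf_map_dvd _ x))
  intro v hv
  have h2 : (MulAut.conjNormal x : MulAut V) ⟨v, hv⟩ = ⟨v, hv⟩ := by rw [h1]; rfl
  have h3 : x * v * x⁻¹ = v := congrArg Subtype.val h2
  exact (mul_inv_eq_iff_eq_mul.mp h3).symm

/-- The odd core of the quotient by a cyclic two-core is trivial. -/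
theorem oddCore_quotient_pCore [(pCore 2 G).Normal] (hc : IsCyclic ↥(pCore 2 G))
    (hO : pPrimeCore 2 G = ⊥) : pPrimeCore 2 (G ⧸ pCore 2 G) = ⊥ := by
  haveI : Fact (Nat.Prime 2) := ⟨Nat.prime_two⟩
  set V := pCore 2 G with hVdef
  have hV : IsPGroup 2 V := Fitting.pCore_isPGroup 2
  set π := QuotientGroup.mk' V
  have hπ := QuotientGroup.mk'_surjective V
  haveI := Transfer.pPrimeCore_normal 2 (G ⧸ V)
  set N : Subgroup G := (pPrimeCore 2 (G ⧸ V)).comap π with hNdef
  have hodd := Transfer.pPrimeCore_coprime (G := G ⧸ V) 2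
  have hVN : V ≤ N := fun x hx => by
    show π x ∈ pPrimeCore 2 (G ⧸ V)
    rw [show π x = 1 from (QuotientGroup.eq_one_iff x).mpr hx]; exact one_mem _
  have htwo : ∀ y ∈ N, (∃ k : ℕ, orderOf y = 2 ^ k) → y ∈ V := by
    rintro y hy ⟨k, hk⟩
    obtain ⟨j, -, hj⟩ := (Nat.dvd_prime_pow Nat.prime_two).mp (hk ▸ orderOf_map_dvd π y)
    exact (QuotientGroup.eq_one_iff y).mp (eq_one_of_two_odd hj (odd_orderOf_of_mem hodd hy))
  have hcomm : ∀ v ∈ V, ∀ w ∈ V, v * w = w * v := by
    intro v hv w hw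
    haveI := hc
    exact congrArg Subtype.val (IsCyclic.commGroup.mul_comm (⟨v, hv⟩ : V) ⟨w, hw⟩)
  have hNC : N ≤ Subgroup.centralizer (V : Set G) := fun n hn =>
    mem_of_parts _ n (fun m hm v hv => hcomm v hv _ (htwo _ (pow_mem hn m) hm))
      (fun m hm => odd_mem_centralizer V hV hc hm)
  have hrel : V.relIndex N = Nat.card (pPrimeCore 2 (G ⧸ V)) := by
    have h1 := Subgroup.relIndex_map_map π V N
    rw [QuotientGroup.ker_mk', sup_idem, sup_eq_left.mpr hVN, QuotientGroup.map_mk'_self,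
      Subgroup.relIndex_bot_left, Subgroup.map_comap_eq_self_of_surjective hπ] at h1
    exact h1.symm
  obtain ⟨B, hBN, hsup, hinf, hcard⟩ := Coprime.exists_complement_of_coprime (N := V) (S := N)
    Subgroup.le_normalizer_of_normal (by
      obtain ⟨a, ha⟩ := IsPGroup.iff_card.mp hV
      rw [inf_eq_left.mpr hVN, ha, hrel]
      exact (hodd.symm).pow_left a)
  rw [inf_eq_left.mpr hVN] at hsup hinf
  have hB2 : (Nat.card B).Coprime 2 := by
    rw [hcard, hrel]
    exact hodd
  have hBn : B.Normal := by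
    refine ⟨fun b hb g => ?_⟩
    have hgn : g * b * g⁻¹ ∈ V ⊔ B := by
      rw [hsup]; exact (inferInstance : N.Normal).conj_mem b (hBN hb) g
    obtain ⟨v, hv, b', hb', e⟩ := Subgroup.mem_sup_of_normal_left.mp hgn
    have hoddg : Odd (orderOf (g * b * g⁻¹)) := by
      rw [show g * b * g⁻¹ = MulAut.conj g b from rfl, MulEquiv.orderOf_eq]
      exact odd_orderOf_of_mem hB2 hb
    have hvb : Commute v b' := hNC (hBN hb') v hv
    obtain ⟨k, hk⟩ := two_pow_of_mem hV hv
    have hv1 : v = 1 := by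
      refine eq_one_of_two_odd hk ?_
      have hm : v ^ (orderOf (g * b * g⁻¹) * orderOf b') = 1 := by
        have h3 : (v * b') ^ (orderOf (g * b * g⁻¹) * orderOf b') = 1 := by
          rw [pow_mul, e, pow_orderOf_eq_one, one_pow]
        rwa [hvb.mul_pow, pow_mul b', ← pow_mul, mul_comm (orderOf (g * b * g⁻¹)) (orderOf b'),
          pow_mul b', pow_orderOf_eq_one, one_pow, mul_one,
          mul_comm (orderOf b') (orderOf (g * b * g⁻¹))] at h3
      exact (hoddg.mul (odd_orderOf_of_mem hB2 hb')).of_dvd_nat (orderOf_dvd_of_pow_eq_one hm)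
    rw [← e, hv1, one_mul]
    exact hb'
  have hB0 : B = ⊥ := le_bot_iff.mp (hO ▸ Transfer.le_pPrimeCore hBn hB2)
  rw [hB0, sup_bot_eq] at hsup
  have h2 := congrArg (Subgroup.map π) hsup
  rw [QuotientGroup.map_mk'_self, Subgroup.map_comap_eq_self_of_surjective hπ] at h2
  exact h2.symm

/-- Solvable normal subgroups lie in a cyclic two-core when the odd core is trivial. -/
theorem solvable_le_pCore (hc : IsCyclic ↥(pCore 2 G)) (hO : pPrimeCore 2 G = ⊥) (N : Subgroup G)
    [N.Normal] (hN : Group.IsSolvable N) : N ≤ pCore 2 G := by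
  classical
  haveI : Fact (Nat.Prime 2) := ⟨Nat.prime_two⟩
  haveI := Fitting.pCore_normal (G := G) 2
  set π := QuotientGroup.mk' (pCore 2 G)
  have hπ := QuotientGroup.mk'_surjective (pCore 2 G)
  have h2 := pCore_quotient_pCore (G := G)
  have h1 := oddCore_quotient_pCore hc hO
  suffices h : N.map π = ⊥ by
    intro x hx
    have : π x ∈ N.map π := Subgroup.mem_map_of_mem π hx
    rw [h, Subgroup.mem_bot] at this
    exact (QuotientGroup.eq_one_iff x).mp this
  by_contra hne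
  haveI : (N.map π).Normal := Subgroup.Normal.map inferInstance π hπ
  obtain ⟨W, ⟨hWn, hWle, hW0⟩, hWmin⟩ := Set.Finite.exists_minimalFor id
    {M : Subgroup (G ⧸ pCore 2 G) | M.Normal ∧ M ≤ N.map π ∧ M ≠ ⊥} (Set.toFinite _)
    ⟨_, inferInstance, le_rfl, hne⟩
  haveI := hWn
  obtain ⟨-, r, hr, hrW⟩ := RealDegree.minimal_solvable hW0 (fun M hM hMW =>
    or_iff_not_imp_left.mpr fun h =>
      le_antisymm hMW (hWmin (j := M) ⟨hM, hMW.trans hWle, h⟩ hMW))
    (Coprime.isSolvable_of_le hWle (Coprime.isSolvable_map π hN))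
  haveI := Fact.mk hr
  have hWr : IsPGroup r W := fun v => ⟨1, Subtype.ext (by rw [pow_one]; exact hrW v v.2)⟩
  by_cases hr2 : r = 2
  · subst hr2
    exact hW0 (le_bot_iff.mp (h2 ▸ Fitting.le_pCore hWn hWr))
  · obtain ⟨k, hk⟩ := IsPGroup.iff_card.mp hWr
    exact hW0 (le_bot_iff.mp (h1 ▸ Transfer.le_pPrimeCore hWn
      (by rw [hk]; exact (Nat.coprime_two_right.mpr (hr.odd_of_ne_two hr2)).pow_left k)))

/-- A solvable group with trivial odd core has a single Sylow two-subgroup. -/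
theorem sylow_eq_of_solvable (h : CI G) (hO : pPrimeCore 2 G = ⊥) (hs : Group.IsSolvable G)
    (S T : Sylow 2 G) : S = T := by
  by_contra hne
  have h1 := solvable_le_pCore (pCore_cyclic_of_ne h hne) hO ⊤
    (by haveI := hs; infer_instance)
  refine hne (Sylow.ext (le_antisymm ?_ ?_))
  · exact (le_top.trans h1).trans (pCore_le_sylow T)
  · exact (le_top.trans h1).trans (pCore_le_sylow S)

end Finite

end CfsgLib.CyclicMeet
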