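import Cfsg.Agent.Lib.CyclicMeet.Shadow
import Cfsg.Agent.Lib.RealOdd.Group

/-!
# A cyclic two-core is central when two Sylow two-subgroups meet in a cyclic group

The proof is an induction on the order. The quotient `Q = G / O₂(G)` inherits a `Shadow`, and the
centralizer in `Q` of a bad involution provides the smaller group.
-/

set_option autoImplicit false
set_option linter.unusedSectionVars false
set_option linter.style.haveILetI false

universe u

namespace CfsgLib.CyclicMeet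

open Cfsg
open scoped Pointwise

theorem pCore_normal' (G : Type*) [Group G] : (pCore 2 G).Normal := Fitting.pCore_normal 2

attribute [local instance] pCore_normal'

/-- The quotient map by the two-core. -/
abbrev proj (G : Type*) [Group G] : G →* G ⧸ pCore 2 G := QuotientGroup.mk' (pCore 2 G)

theorem proj_surjective (G : Type*) [Group G] : Function.Surjective (proj G) :=
  QuotientGroup.mk'_surjective _

theorem proj_ker (G : Type*) [Group G] : (proj G).ker = pCore 2 G := QuotientGroup.ker_mk' _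

theorem le_comap_proj {G : Type*} [Group G] (X : Subgroup (G ⧸ pCore 2 G)) :
    pCore 2 G ≤ X.comap (proj G) :=
  (proj_ker G).symm.trans_le ((proj G).ker_le_comap X)

theorem proj_eq_one {G : Type*} [Group G] {x : G} : proj G x = 1 ↔ x ∈ pCore 2 G :=
  QuotientGroup.eq_one_iff x

section Squares

variable {G : Type*} [Group G] [Finite G] {V : Subgroup G} (hV : IsCyclic V)

include hV

theorem exists_sq_of_sq_eq_one (h4 : 4 ∣ Nat.card V) {c : G} (hc : c ∈ V) (hc2 : c * c = 1) :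
    ∃ w ∈ V, w * w = c := by
  haveI := hV
  obtain ⟨g, hg⟩ := IsCyclic.exists_generator (α := V)
  obtain ⟨k, hk⟩ := Subgroup.mem_zpowers_iff.mp (hg ⟨c, hc⟩)
  have h1 : (g : V) ^ (k + k) = 1 := by
    rw [zpow_add, hk]
    exact Subtype.ext hc2
  have h2 : (4 : ℤ) ∣ k + k := by
    have h3 := orderOf_dvd_iff_zpow_eq_one.mpr h1
    rw [orderOf_eq_card_of_forall_mem_zpowers hg] at h3
    exact (Int.natCast_dvd_natCast.mpr h4).trans h3
  obtain ⟨j, hj⟩ : Even k := by
    obtain ⟨m, hm⟩ := h2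
    exact ⟨m, by omega⟩
  refine ⟨((g ^ j : V) : G), (g ^ j).2, ?_⟩
  rw [← Subgroup.coe_mul, ← zpow_add, ← hj, hk]

theorem exists_sq_mul {a b : G} (ha : a ∈ V) (hb : b ∈ V) (hna : ∀ w ∈ V, w * w ≠ a)
    (hnb : ∀ w ∈ V, w * w ≠ b) : ∃ w ∈ V, w * w = a * b := by
  haveI := hV
  obtain ⟨g, hg⟩ := IsCyclic.exists_generator (α := V)
  obtain ⟨k, hk⟩ := Subgroup.mem_zpowers_iff.mp (hg ⟨a, ha⟩)
  obtain ⟨l, hl⟩ := Subgroup.mem_zpowers_iff.mp (hg ⟨b, hb⟩)
  have key : ∀ (c : G) (hc : c ∈ V) (m : ℤ), g ^ m = ⟨c, hc⟩ → (∀ w ∈ V, w * w ≠ c) → Odd m := by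
    intro c hc m hm hn
    rcases Int.even_or_odd m with ⟨j, hj⟩ | h
    · refine absurd ?_ (hn ((g ^ j : V) : G) (g ^ j).2)
      rw [← Subgroup.coe_mul, ← zpow_add, ← hj, hm]
    · exact h
  obtain ⟨j, hj⟩ := (key a ha k hk hna).add_odd (key b hb l hl hnb)
  refine ⟨((g ^ j : V) : G), (g ^ j).2, ?_⟩
  rw [← Subgroup.coe_mul, ← zpow_add, ← hj, zpow_add, hk, hl]
  rfl

theorem exists_invol (h4 : 4 ∣ Nat.card V) : ∃ e ∈ V, e * e = 1 ∧ e ≠ 1 := by
  haveI : Fact (Nat.Prime 2) := ⟨Nat.prime_two⟩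
  obtain ⟨e, he⟩ := exists_prime_orderOf_dvd_card' (G := V) 2 ((by norm_num : 2 ∣ 4).trans h4)
  refine ⟨e, e.2, congrArg Subtype.val (Invol.mul_self_of_orderOf_two he), fun h => ?_⟩
  exact Invol.ne_one_of_orderOf_two he (Subtype.ext h)

end Squares

section Fixed

variable {G : Type*} [Group G] [Finite G]

theorem commute_of_cyclic {A : Subgroup G} (hA : IsCyclic A) {x y : G} (hx : x ∈ A) (hy : y ∈ A) :
    Commute x y := by
  haveI := hA
  exact congrArg Subtype.val (IsCyclic.commGroup.mul_comm (⟨x, hx⟩ : A) ⟨y, hy⟩)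

theorem sq_not_square {V A : Subgroup G} (h4 : 4 ∣ Nat.card V) (hVA : V ≤ A) (hA : IsCyclic A)
    {x : G} (hx : x ∈ A) (hxV : x ∉ V) : ∀ w ∈ V, w * w ≠ x * x := by
  intro w hw e
  obtain ⟨t, ht, ht2, ht1⟩ := exists_invol (cyclic_of_le hVA hA) h4
  have hc : Commute x w⁻¹ := commute_of_cyclic hA hx (inv_mem (hVA hw))
  have h2 : x * w⁻¹ * (x * w⁻¹) = 1 := by
    rw [hc.symm.mul_mul_mul_comm, ← e]; group
  have h1 : x * w⁻¹ ≠ 1 := fun e' => hxV (by rw [mul_inv_eq_one.mp e']; exact hw)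
  have h3 := invol_eq_of_cyclic hA (mul_mem hx (inv_mem (hVA hw))) (hVA ht) h2 ht2 h1 ht1
  exact hxV (by rw [show x = x * w⁻¹ * w by group, h3]; exact mul_mem ht hw)

theorem isSolvable_of_quotient_pCore (hs : Group.IsSolvable (G ⧸ pCore 2 G)) :
    Group.IsSolvable G := by
  haveI : Fact (Nat.Prime 2) := ⟨Nat.prime_two⟩
  haveI : Group.IsNilpotent (pCore 2 G) := (Fitting.pCore_isPGroup 2).isNilpotent
  haveI := hs
  exact Group.isSolvable_of_ker_le_range (pCore 2 G).subtype (proj G)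
    (by rw [proj_ker, Subgroup.range_subtype])

/-- The quotient by a cyclic two-core of order at least four. -/
def shadow (h : CI G) (hns : ¬ Group.IsSolvable G) (hO : pPrimeCore 2 G = ⊥)
    (hV : IsCyclic ↥(pCore 2 G)) (h4 : 4 ∣ Nat.card (pCore 2 G)) : Shadow (G ⧸ pCore 2 G) where
  Cyc X := IsCyclic ↥(X.comap (proj G))
  mono hXY hY := cyclic_of_le (Subgroup.comap_mono hXY) hY
  cyclic {X} hX :=
    Subgroup.map_comap_eq_self_of_surjective (proj_surjective G) X ▸ cyclic_map (proj G) hX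
  meet S T hne := by
    haveI : Fact (Nat.Prime 2) := ⟨Nat.prime_two⟩
    obtain ⟨S', rfl⟩ := Sylow.mapSurjective_surjective (proj_surjective G) 2 S
    obtain ⟨T', rfl⟩ := Sylow.mapSurjective_surjective (proj_surjective G) 2 T
    rw [Sylow.coe_mapSurjective, Sylow.coe_mapSurjective, Subgroup.comap_inf,
      Subgroup.comap_map_eq_self ((proj_ker G).le.trans (pCore_le_sylow S')),
      Subgroup.comap_map_eq_self ((proj_ker G).le.trans (pCore_le_sylow T'))]
    exact h S' T' fun e => hne (e ▸ rfl)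
  mul {a b} ha hb ha1 hb1 hab hc hJa hJb hJab := by
    obtain ⟨x, rfl⟩ := proj_surjective G a
    obtain ⟨y, rfl⟩ := proj_surjective G b
    have hxA : x ∈ (Subgroup.zpowers (proj G x)).comap (proj G) := Subgroup.mem_zpowers _
    have hyB : y ∈ (Subgroup.zpowers (proj G y)).comap (proj G) := Subgroup.mem_zpowers _
    have hxyC : x * y ∈ (Subgroup.zpowers (proj G x * proj G y)).comap (proj G) := by
      show proj G (x * y) ∈ Subgroup.zpowers (proj G x * proj G y)
      rw [map_mul]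
      exact Subgroup.mem_zpowers _
    have hxV : x ∉ pCore 2 G := fun hx => ha1 (proj_eq_one.mpr hx)
    have hyV : y ∉ pCore 2 G := fun hy => hb1 (proj_eq_one.mpr hy)
    have hxyV : x * y ∉ pCore 2 G := fun hxy => by
      have e := proj_eq_one.mpr hxy
      rw [map_mul] at e
      refine hab ?_
      calc proj G x = proj G x * (proj G y * proj G y) := by rw [hb, mul_one]
        _ = proj G y := by rw [← mul_assoc, e, one_mul]
    have hxx : x * x ∈ pCore 2 G := proj_eq_one.mp (by rw [map_mul, ha])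
    have hyy : y * y ∈ pCore 2 G := proj_eq_one.mp (by rw [map_mul, hb])
    have hcen : ∀ w ∈ pCore 2 G, Commute x w ∧ Commute y w := fun w hw =>
      ⟨commute_of_cyclic hJa hxA (le_comap_proj _ hw),
        commute_of_cyclic hJb hyB (le_comap_proj _ hw)⟩
    set c : G := (x * y)⁻¹ * (y * x) with hcdef
    have hcV : c ∈ pCore 2 G := proj_eq_one.mp (by
      rw [hcdef, map_mul, map_inv, map_mul, map_mul, ← hc.eq, inv_mul_cancel])
    obtain ⟨hxc, hyc⟩ := hcen c hcV
    have hyx : y * x = x * y * c := by rw [hcdef]; group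
    have hc2 : c * c = 1 := by
      have h1 : y * (x * x) = x * x * y := (hcen _ hxx).2.eq
      have h2 : y * (x * x) = x * x * y * (c * c) := by
        calc y * (x * x) = x * y * c * x := by rw [← hyx, mul_assoc]
          _ = x * (y * x) * c := by rw [mul_assoc (x * y), ← hxc.eq]; group
          _ = x * x * y * (c * c) := by rw [hyx]; group
      exact left_eq_mul.mp (h1.symm.trans h2)
    have hsq : x * y * (x * y) = x * x * (y * y) * c := by
      calc x * y * (x * y) = x * (y * x) * y := by group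
        _ = x * x * y * (c * y) := by rw [hyx]; group
        _ = x * x * (y * y) * c := by rw [← hyc.eq]; group
    obtain ⟨w1, hw1, e1⟩ := exists_sq_mul hV hxx hyy
      (sq_not_square h4 (le_comap_proj _) hJa hxA hxV)
      (sq_not_square h4 (le_comap_proj _) hJb hyB hyV)
    obtain ⟨w2, hw2, e2⟩ := exists_sq_of_sq_eq_one hV h4 hcV hc2
    refine sq_not_square h4 (le_comap_proj _) hJab hxyC hxyV (w1 * w2) (mul_mem hw1 hw2) ?_
    rw [(commute_of_cyclic hV hw2 hw1).mul_mul_mul_comm, e1, e2, hsq]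
  core := pCore_quotient_pCore
  odd := oddCore_quotient_pCore hV hO
  ns := fun hs => hns (isSolvable_of_quotient_pCore hs)

end Fixed

/-- The inductive statement. -/
def Claim (G : Type u) [Group G] : Prop :=
  pCore 2 G ≤ Subgroup.center G ∧
    (4 ∣ Nat.card (pCore 2 G) → ∀ (S : Sylow 2 (G ⧸ pCore 2 G)) (i : G ⧸ pCore 2 G),
      i * i = 1 → i ≠ 1 → i ∈ (S : Subgroup (G ⧸ pCore 2 G)) →
      ¬ IsCyclic ↥((Subgroup.zpowers i).comap (proj G)) → Fix S i → False)

variable {G : Type u} [Group G] [Finite G]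

/-- What the smaller group says about a bad involution. -/
theorem bad_step (h : CI G) (hns : ¬ Group.IsSolvable G) (hO : pPrimeCore 2 G = ⊥)
    (hV : IsCyclic ↥(pCore 2 G)) (h4 : 4 ∣ Nat.card (pCore 2 G))
    (ih : ∀ (K : Type u) [Group K] [Finite K], Nat.card K < Nat.card G → CI K →
      ¬ Group.IsSolvable K → pPrimeCore 2 K = ⊥ → Claim K)
    (S : Sylow 2 (G ⧸ pCore 2 G)) (v : G ⧸ pCore 2 G) (hv : v * v = 1) (hv1 : v ≠ 1)
    (hvS : v ∈ (S : Subgroup (G ⧸ pCore 2 G))) (hb : ¬ Good S v) :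
    Subgroup.centralizer ({v} : Set (G ⧸ pCore 2 G)) ≤
        (Subgroup.centralizer (pCore 2 G : Set G)).map (proj G) ∧
      ∀ u : G ⧸ pCore 2 G, u * u = 1 → u ∈ (S : Subgroup (G ⧸ pCore 2 G)) → Commute u v →
        ¬ IsCyclic ↥((Subgroup.zpowers u).comap (proj G)) →
        (∀ n ∈ Subgroup.centralizer ({v} : Set (G ⧸ pCore 2 G)) ⊓
            Subgroup.normalizer ((S : Subgroup (G ⧸ pCore 2 G)) : Set (G ⧸ pCore 2 G)),
          ∃ r ∈ (S : Subgroup (G ⧸ pCore 2 G)) ⊓ Subgroup.centralizer ({v} : Set (G ⧸ pCore 2 G)),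
            n * u * n⁻¹ = r * u * r⁻¹) → False := by
  haveI : Fact (Nat.Prime 2) := ⟨Nat.prime_two⟩
  let h' := shadow h hns hO hV h4
  let L : Subgroup (G ⧸ pCore 2 G) := Subgroup.centralizer ({v} : Set (G ⧸ pCore 2 G))
  let H : Subgroup G := L.comap (proj G)
  have hHlt : Nat.card H < Nat.card G := by
    refine lt_of_le_of_ne (Subgroup.card_le_card_group H) fun e => ?_
    have hH : H = ⊤ := Subgroup.eq_top_of_card_eq H e
    refine h'.not_all_commute hv hv1 fun g => ?_
    obtain ⟨g, rfl⟩ := proj_surjective G g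
    exact mem_cent.mp (show g ∈ H from hH ▸ Subgroup.mem_top g)
  have hHns : ¬ Group.IsSolvable H := fun hs =>
    h'.not_solvable_centralizer hv hv1 hvS hb
      (Coprime.isSolvable_of_le (Subgroup.map_comap_eq_self_of_surjective (proj_surjective G) L).ge
        (Coprime.isSolvable_map (proj G) hs))
  haveI := Transfer.pPrimeCore_normal 2 H
  let O : Subgroup H := pPrimeCore 2 H
  let f : H →* H ⧸ O := QuotientGroup.mk' O
  have hf : Function.Surjective f := QuotientGroup.mk'_surjective O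
  have hOc : (Nat.card O).Coprime 2 := Transfer.pPrimeCore_coprime 2
  have hfk : (Nat.card f.ker).Coprime 2 := by
    rw [show f.ker = O from QuotientGroup.ker_mk' O]; exact hOc
  have hcard : Nat.card (H ⧸ O) < Nat.card G :=
    (Nat.le_of_dvd Nat.card_pos (Subgroup.card_quotient_dvd_card O)).trans_lt hHlt
  have hns' : ¬ Group.IsSolvable (H ⧸ O) := by
    intro hs
    haveI := hs
    haveI : Group.IsSolvable O :=
      OddOrder.odd_order_solvable (Nat.coprime_two_right.mp hOc)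
    exact hHns (Group.isSolvable_of_ker_le_range O.subtype f
      (by rw [show f.ker = O from QuotientGroup.ker_mk' O, Subgroup.range_subtype]))
  have hCI : CI (H ⧸ O) := (h.subgroup H).map f hf
  obtain ⟨hcent, hfix⟩ := ih (H ⧸ O) hcard hCI hns'
    (PSolvable.pPrimeCore_eq_bot_of_ker hf (QuotientGroup.ker_mk' O))
  have hVH : pCore 2 G ≤ H := le_comap_proj L
  -- the map is injective on two-subgroups
  have hinj : ∀ X : Subgroup H, IsPGroup 2 X → Set.InjOn f X := fun X hX a ha b hb e => by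
    have h1 : a⁻¹ * b ∈ O := QuotientGroup.eq.mp e
    obtain ⟨k, hk⟩ := two_pow_of_mem hX (mul_mem (inv_mem ha) hb)
    exact inv_mul_eq_one.mp (eq_one_of_two_odd hk (odd_orderOf_of_mem hOc h1))
  let V' : Subgroup H := (pCore 2 G).subgroupOf H
  have hV' : IsPGroup 2 V' :=
    (Fitting.pCore_isPGroup 2).comap_of_injective H.subtype H.subtype_injective
  have hV'n : (V'.map f).Normal := Subgroup.Normal.map inferInstance f hf
  have hV'B : V'.map f ≤ pCore 2 (H ⧸ O) := Fitting.le_pCore hV'n (hV'.map f)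
  have h4' : 4 ∣ Nat.card (pCore 2 (H ⧸ O)) := by
    refine (h4.trans ?_).trans (Subgroup.card_dvd_of_le hV'B)
    rw [← Nat.card_congr (Subgroup.subgroupOfEquivOfLe hVH).toEquiv]
    exact dvd_of_eq (Nat.card_congr (Equiv.ofBijective (f.subgroupMap V')
      ⟨fun a b e => Subtype.ext (hinj V' hV' a.2 b.2 (congrArg Subtype.val e)),
        f.subgroupMap_surjective V'⟩))
  refine ⟨?_, ?_⟩
  · intro x hx
    obtain ⟨g, rfl⟩ := proj_surjective G x
    refine Subgroup.mem_map_of_mem _ fun w hw => ?_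
    let g' : H := ⟨g, hx⟩
    let w' : H := ⟨w, hVH hw⟩
    have hcm : f w' * f g' = f g' * f w' :=
      (Subgroup.mem_center_iff.mp (hcent (hV'B ⟨w', hw, rfl⟩)) (f g')).symm
    have h1 : (w' * g')⁻¹ * (g' * w') ∈ O := QuotientGroup.eq.mp (by
      show f (w' * g') = f (g' * w')
      rw [map_mul, map_mul, hcm])
    have h2 : (w * g)⁻¹ * (g * w) ∈ pCore 2 G := by
      rw [show (w * g)⁻¹ * (g * w) = g⁻¹ * w⁻¹ * g * w by group]
      refine mul_mem ?_ hw
      have := (pCore_normal' G).conj_mem _ (inv_mem hw) g⁻¹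
      rwa [inv_inv] at this
    obtain ⟨k, hk⟩ := two_pow_of_mem (Fitting.pCore_isPGroup 2) h2
    have h3 : Odd (orderOf ((w * g)⁻¹ * (g * w))) := by
      have := odd_orderOf_of_mem hOc h1
      rw [← Subgroup.orderOf_coe] at this
      exact this
    exact inv_mul_eq_one.mp (eq_one_of_two_odd hk h3)
  intro u hu huS huv hJ hn
  obtain ⟨g, rfl⟩ := proj_surjective G u
  have hgH : g ∈ H := mem_cent.mpr huv
  obtain ⟨U, hUeq, hUn⟩ := h'.sylow_centralizer hv hv1 hvS hb
  let πH : H →* L := (proj G).subgroupComap L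
  have hπH : Function.Surjective πH :=
    (proj G).subgroupComap_surjective_of_surjective L (proj_surjective G)
  have hker : IsPGroup 2 πH.ker := by
    refine hV'.to_le fun a ha => ?_
    exact proj_eq_one.mp (congrArg Subtype.val (MonoidHom.mem_ker.mp ha))
  let P : Sylow 2 H := U.comapOfKerIsPGroup πH hker
    (by rw [MonoidHom.range_eq_top.mpr hπH]; exact le_top)
  have hP : (P : Subgroup H) = (U : Subgroup L).comap πH := rfl
  have hgP : (⟨g, hgH⟩ : H) ∈ (P : Subgroup H) := by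
    rw [hP, Subgroup.mem_comap, hUeq]
    exact huS
  let ρ : H →* (H ⧸ O) ⧸ pCore 2 (H ⧸ O) := (proj (H ⧸ O)).comp f
  have hρ : Function.Surjective ρ := (proj_surjective _).comp hf
  have hρV : ∀ a b : H, proj G (a : G) = proj G (b : G) → ρ a = ρ b := fun a b e => by
    have h1 : a⁻¹ * b ∈ V' := (QuotientGroup.eq.mp e : (a : G)⁻¹ * b ∈ pCore 2 G)
    have h2 : ρ (a⁻¹ * b) = 1 := proj_eq_one.mpr (hV'B ⟨_, h1, rfl⟩)
    rw [map_mul, map_inv, inv_mul_eq_one] at h2
    exact h2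
  let i : (H ⧸ O) ⧸ pCore 2 (H ⧸ O) := ρ ⟨g, hgH⟩
  have hi : i * i = 1 := by
    show ρ ⟨g, hgH⟩ * ρ ⟨g, hgH⟩ = 1
    rw [← map_mul, ← map_one ρ]
    refine hρV _ _ ?_
    show proj G (g * g) = proj G 1
    rw [map_mul, hu, map_one]
  have hnc : ¬ IsCyclic ↥((Subgroup.zpowers i).comap (proj (H ⧸ O))) := by
    intro hc
    apply hJ
    have hJH : (Subgroup.zpowers (proj G g)).comap (proj G) ≤ H :=
      Subgroup.comap_mono (Subgroup.zpowers_le.mpr (mem_cent.mpr huv))
    let J : Subgroup H := ((Subgroup.zpowers (proj G g)).comap (proj G)).subgroupOf H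
    have hJ2 : IsPGroup 2 J :=
      ((P.isPGroup').to_le fun a ha => by
        rw [hP, Subgroup.mem_comap, hUeq]
        exact Subgroup.zpowers_le.mpr huS ha)
    have hJle : J.map f ≤ (Subgroup.zpowers i).comap (proj (H ⧸ O)) := by
      rintro _ ⟨a, ha, rfl⟩
      obtain ⟨k, hk⟩ := Subgroup.mem_zpowers_iff.mp (show proj G (a : G) ∈ _ from ha)
      refine ⟨k, ?_⟩
      show ρ ⟨g, hgH⟩ ^ k = ρ a
      rw [← map_zpow]
      refine hρV _ _ ?_
      rw [Subgroup.coe_zpow, map_zpow]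
      exact hk
    haveI : IsCyclic J := cyclic_of_map f (hinj J hJ2) (cyclic_of_le hJle hc)
    exact isCyclic_of_surjective (Subgroup.subgroupOfEquivOfLe hJH).toMonoidHom
      (Subgroup.subgroupOfEquivOfLe hJH).surjective
  have hi1 : i ≠ 1 := by
    intro e
    apply hnc
    rw [e, Subgroup.zpowers_one_eq_bot, MonoidHom.comap_bot, proj_ker]
    obtain ⟨T, hT⟩ := exists_ne_sylow hns' default
    exact pCore_cyclic_of_ne hCI hT
  refine hfix h4' (P.mapSurjective hρ) i hi hi1 ⟨_, hgP, rfl⟩ hnc fun n' hn' => ?_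
  rw [Sylow.coe_mapSurjective] at hn' ⊢
  have hmap : (P : Subgroup H).map ρ = ((P : Subgroup H).map f).map (proj (H ⧸ O)) :=
    (Subgroup.map_map _ _ _).symm
  have hBP : (proj (H ⧸ O)).ker ≤ (P : Subgroup H).map f := by
    rw [proj_ker, ← Sylow.coe_mapSurjective (P := P) hf]
    exact pCore_le_sylow _
  rw [hmap, ← RealOdd.map_normalizer_of_ker_le _ (proj_surjective _) _ hBP,
    ← PSolvable.map_normalizer_eq (p := 2) hf hfk P.isPGroup'] at hn'
  obtain ⟨m, hm, rfl⟩ := hn'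
  obtain ⟨n, hnP, rfl⟩ := hm
  have hnU : πH n ∈ Subgroup.normalizer ((U : Subgroup L) : Set L) := by
    refine Subgroup.mem_normalizer_iff.mpr fun l => ?_
    obtain ⟨a, rfl⟩ := hπH l
    rw [← map_inv, ← map_mul, ← map_mul]
    exact Subgroup.mem_normalizer_iff.mp hnP a
  obtain ⟨r, hr, hre⟩ := hn (proj G (n : G)) (Subgroup.mem_inf.mpr ⟨n.2, hUn _ hnU⟩)
  obtain ⟨hrS, hrL⟩ := Subgroup.mem_inf.mp hr
  obtain ⟨r, rfl⟩ := proj_surjective G r
  refine ⟨ρ ⟨r, hrL⟩, ⟨⟨r, hrL⟩, ?_, rfl⟩, ?_⟩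
  · rw [hP, SetLike.mem_coe, Subgroup.mem_comap, hUeq]
    exact hrS
  show ρ n * ρ ⟨g, hgH⟩ * (ρ n)⁻¹ = ρ ⟨r, hrL⟩ * ρ ⟨g, hgH⟩ * (ρ ⟨r, hrL⟩)⁻¹
  rw [← map_inv, ← map_inv, ← map_mul, ← map_mul, ← map_mul, ← map_mul]
  refine hρV _ _ ?_
  show proj G ((n : G) * g * (n : G)⁻¹) = proj G (r * g * r⁻¹)
  rw [map_mul, map_mul, map_inv, map_mul, map_mul, map_inv]
  exact hre

theorem central_of_small (hV : IsCyclic ↥(pCore 2 G)) (h4 : ¬ 4 ∣ Nat.card (pCore 2 G)) :
    pCore 2 G ≤ Subgroup.center G := by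
  haveI : Fact (Nat.Prime 2) := ⟨Nat.prime_two⟩
  obtain ⟨k, hk⟩ := IsPGroup.iff_card.mp (Fitting.pCore_isPGroup (G := G) 2)
  have hk1 : k ≤ 1 := by
    by_contra hlt
    exact h4 (hk ▸ (pow_dvd_pow 2 (show 2 ≤ k by omega)))
  have hsq : ∀ w ∈ pCore 2 G, w * w = 1 := fun w hw => by
    have h1 : orderOf w ∣ 2 ^ 1 :=
      ((pCore 2 G).orderOf_dvd_natCard hw).trans (hk ▸ pow_dvd_pow 2 hk1)
    rw [← pow_two]
    exact orderOf_dvd_iff_pow_eq_one.mp h1
  intro w hw
  refine Subgroup.mem_center_iff.mpr fun g => ?_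
  rcases eq_or_ne w 1 with rfl | hw1
  · simp
  have hgw := (pCore_normal' G).conj_mem w hw g
  have h1 := invol_eq_of_cyclic hV hgw hw (hsq _ hgw) (hsq _ hw) (conj_ne_one hw1) hw1
  exact mul_inv_eq_iff_eq_mul.mp h1

theorem claim_of_lt (h : CI G) (hns : ¬ Group.IsSolvable G) (hO : pPrimeCore 2 G = ⊥)
    (ih : ∀ (K : Type u) [Group K] [Finite K], Nat.card K < Nat.card G → CI K →
      ¬ Group.IsSolvable K → pPrimeCore 2 K = ⊥ → Claim K) : Claim G := by
  haveI : Fact (Nat.Prime 2) := ⟨Nat.prime_two⟩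
  obtain ⟨T, hT⟩ := exists_ne_sylow hns default
  have hV := pCore_cyclic_of_ne h hT
  by_cases h4 : 4 ∣ Nat.card (pCore 2 G)
  swap
  · exact ⟨central_of_small hV h4, fun h' => absurd h' h4⟩
  let h' := shadow h hns hO hV h4
  have hB : h'.LocalStep := fun S v u hv hv1 hvS hb hu _ _ huS huv hJ hn =>
    (bad_step h hns hO hV h4 ih S v hv hv1 hvS hb).2 u hu huS huv hJ hn
  refine ⟨?_, fun _ S i hi hi1 hiS hJ hf =>
    h'.no_fixed hB hi hi1 hiS (h'.good_of_not_cyc hJ hiS) hf⟩
  let C : Subgroup G := Subgroup.centralizer (pCore 2 G : Set G)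
  haveI : (C.map (proj G)).Normal :=
    Subgroup.Normal.map inferInstance (proj G) (proj_surjective G)
  have hodd : ∀ x : G ⧸ pCore 2 G, Odd (orderOf x) → x ∈ C.map (proj G) := by
    intro x hx
    obtain ⟨g, rfl⟩ := proj_surjective G x
    refine mem_of_parts ((C.map (proj G)).comap (proj G)) g (fun m hm => ?_) (fun m hm =>
      Subgroup.mem_map_of_mem _ (odd_mem_centralizer _ (Fitting.pCore_isPGroup 2) hV hm))
    obtain ⟨k, hk⟩ := hm
    obtain ⟨j, -, hj⟩ :=
      (Nat.dvd_prime_pow Nat.prime_two).mp (hk ▸ orderOf_map_dvd (proj G) (g ^ m))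
    have h1 : proj G (g ^ m) = 1 :=
      eq_one_of_two_odd hj (hx.of_dvd_nat (by rw [map_pow]; exact orderOf_pow_dvd m))
    show proj G (g ^ m) ∈ C.map (proj G)
    rw [h1]
    exact one_mem _
  have htop := h'.eq_top hB (C.map (proj G)) hodd fun S v hv hv1 hvS hb =>
    (bad_step h hns hO hV h4 ih S v hv hv1 hvS hb).1
  intro w hw
  refine Subgroup.mem_center_iff.mpr fun g => ?_
  obtain ⟨c, hc, hce⟩ : proj G g ∈ C.map (proj G) := htop ▸ Subgroup.mem_top _
  have h1 : c⁻¹ * g ∈ pCore 2 G := QuotientGroup.eq.mp hce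
  have h2 : g ∈ C := by
    rw [show g = c * (c⁻¹ * g) by group]
    exact mul_mem hc fun v hv => (commute_of_cyclic hV hv h1).eq
  exact (h2 w hw).symm

/-- Main theorem: a cyclic two-core is central. -/
theorem claim : ∀ (n : ℕ) (G : Type u) [Group G] [Finite G], Nat.card G = n → CI G →
    ¬ Group.IsSolvable G → pPrimeCore 2 G = ⊥ → Claim G := by
  intro n
  induction n using Nat.strong_induction_on with
  | _ n ih =>
    intro G _ _ hn h hns hO
    exact claim_of_lt h hns hO fun K _ _ hK hC hs hO' => ih _ (hn ▸ hK) K rfl hC hs hO'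

end CfsgLib.CyclicMeet
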