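import Cfsg.Agent.Lib.CyclicMeet.Basic
import Cfsg.Agent.Lib.Coprime.Generation
import Cfsg.Agent.Lib.ClassSize.SmallPPart

/-!
# Involutions of the quotient by the two-core

`Shadow Q` records what is known of `Q = G / O₂(G)`: the subgroups with cyclic preimage and their
properties. A bad involution of a Sylow two-subgroup `S` is one whose centralizer does not
normalize `S`.
-/

set_option autoImplicit false
set_option linter.unusedSectionVars false
set_option linter.style.haveILetI false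

namespace CfsgLib.CyclicMeet

open Cfsg
open scoped Pointwise

/-- The properties of the quotient by a cyclic two-core of order at least four. -/
structure Shadow (Q : Type*) [Group Q] where
  /-- The subgroups with cyclic preimage. -/
  Cyc : Subgroup Q → Prop
  mono : ∀ {X Y : Subgroup Q}, X ≤ Y → Cyc Y → Cyc X
  cyclic : ∀ {X : Subgroup Q}, Cyc X → IsCyclic X
  meet : ∀ S T : Sylow 2 Q, S ≠ T → Cyc ((S : Subgroup Q) ⊓ T)
  mul : ∀ {a b : Q}, a * a = 1 → b * b = 1 → a ≠ 1 → b ≠ 1 → a ≠ b → Commute a b →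
    Cyc (Subgroup.zpowers a) → Cyc (Subgroup.zpowers b) → ¬ Cyc (Subgroup.zpowers (a * b))
  core : pCore 2 Q = ⊥
  odd : pPrimeCore 2 Q = ⊥
  ns : ¬ Group.IsSolvable Q

variable {Q : Type*} [Group Q]

/-- The centralizer normalizes the Sylow subgroup. -/
def Good (S : Sylow 2 Q) (a : Q) : Prop :=
  Subgroup.centralizer ({a} : Set Q) ≤ Subgroup.normalizer ((S : Subgroup Q) : Set Q)

/-- The orbit under the Sylow normalizer is the orbit under the Sylow subgroup. -/
def Fix (S : Sylow 2 Q) (a : Q) : Prop :=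
  ∀ n ∈ Subgroup.normalizer ((S : Subgroup Q) : Set Q),
    ∃ s ∈ (S : Subgroup Q), n * a * n⁻¹ = s * a * s⁻¹

theorem mem_cent {a x : Q} : x ∈ Subgroup.centralizer ({a} : Set Q) ↔ Commute x a :=
  Subgroup.mem_centralizer_singleton_iff

theorem conj_mem_smul (S : Sylow 2 Q) (g : Q) {x : Q} (hx : x ∈ (S : Subgroup Q)) :
    g * x * g⁻¹ ∈ ((g • S : Sylow 2 Q) : Subgroup Q) :=
  Subgroup.smul_mem_pointwise_smul x (MulAut.conj g) _ hx

theorem conj_sq {a g : Q} (ha : a * a = 1) : g * a * g⁻¹ * (g * a * g⁻¹) = 1 := by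
  rw [show g * a * g⁻¹ * (g * a * g⁻¹) = g * (a * a) * g⁻¹ by group, ha]; group

theorem conj_ne_one {a g : Q} (ha : a ≠ 1) : g * a * g⁻¹ ≠ 1 := fun h => ha (conj_eq_one_iff.mp h)

namespace Shadow

variable [Finite Q] (h : Shadow Q)

include h

theorem eq_of_pair {S T : Sylow 2 Q} {a b : Q} (ha : a * a = 1) (hb : b * b = 1) (ha1 : a ≠ 1)
    (hb1 : b ≠ 1) (hab : a ≠ b) (haS : a ∈ (S : Subgroup Q)) (hbS : b ∈ (S : Subgroup Q))
    (haT : a ∈ (T : Subgroup Q)) (hbT : b ∈ (T : Subgroup Q)) : S = T := by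
  by_contra hne
  exact hab (invol_eq_of_cyclic (h.cyclic (h.meet S T hne)) (Subgroup.mem_inf.mpr ⟨haS, haT⟩)
    (Subgroup.mem_inf.mpr ⟨hbS, hbT⟩) ha hb ha1 hb1)

theorem eq_of_not_cyc {S T : Sylow 2 Q} {a : Q} (hJ : ¬ h.Cyc (Subgroup.zpowers a))
    (haS : a ∈ (S : Subgroup Q)) (haT : a ∈ (T : Subgroup Q)) : S = T := by
  by_contra hne
  exact hJ (h.mono (Subgroup.zpowers_le.mpr (Subgroup.mem_inf.mpr ⟨haS, haT⟩)) (h.meet S T hne))

theorem good_of_not_cyc {S : Sylow 2 Q} {a : Q} (hJ : ¬ h.Cyc (Subgroup.zpowers a))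
    (haS : a ∈ (S : Subgroup Q)) : Good S a := by
  intro x hx
  have h1 : x * a * x⁻¹ = a := by rw [(mem_cent.mp hx).eq, mul_inv_cancel_right]
  exact Sylow.smul_eq_iff_mem_normalizer.mp
    (h.eq_of_not_cyc hJ haS (h1 ▸ conj_mem_smul S x haS)).symm

omit [Finite Q] in
theorem cyc_of_bad [Finite Q] {S : Sylow 2 Q} {a : Q} (haS : a ∈ (S : Subgroup Q))
    (hb : ¬ Good S a) : h.Cyc (Subgroup.zpowers a) :=
  not_not.mp fun hJ => hb (h.good_of_not_cyc hJ haS)

theorem mem_of_normalizer {S : Sylow 2 Q} {a : Q} (ha : a * a = 1)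
    (hn : a ∈ Subgroup.normalizer ((S : Subgroup Q) : Set Q)) : a ∈ (S : Subgroup Q) := by
  haveI : Fact (Nat.Prime 2) := ⟨Nat.prime_two⟩
  refine SmallPPart.mem_sylow_of_mem_normalizer S ?_ hn
  obtain ⟨k, -, hk⟩ := (Nat.dvd_prime_pow (m := 1) Nat.prime_two).mp
    (orderOf_dvd_of_pow_eq_one (show a ^ 2 ^ 1 = 1 by rw [pow_one, pow_two, ha]))
  exact ⟨k, hk⟩

theorem not_all_commute {z : Q} (hz : z * z = 1) (hz1 : z ≠ 1) : ¬ ∀ g : Q, Commute g z := by
  intro hall
  have hn : (Subgroup.zpowers z).Normal := by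
    refine ⟨fun x hx g => ?_⟩
    obtain ⟨k, rfl⟩ := Subgroup.mem_zpowers_iff.mp hx
    rw [((hall g).zpow_right k).eq, mul_inv_cancel_right]
    exact hx
  have hp : IsPGroup 2 (Subgroup.zpowers z) := by
    refine IsPGroup.of_card (n := 1) ?_
    rw [Nat.card_zpowers, pow_one, Invol.orderOf_two_of_mul_self hz hz1]
  have h1 := Fitting.le_pCore hn hp
  rw [h.core] at h1
  exact hz1 (Subgroup.mem_bot.mp (h1 (Subgroup.mem_zpowers z)))

/-- No central involution of the Sylow subgroup is fixed by its normalizer. -/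
theorem not_fixed_central {S : Sylow 2 Q} {z : Q} (hz : z * z = 1) (hz1 : z ≠ 1)
    (hzS : z ∈ (S : Subgroup Q)) (hc : ∀ s ∈ (S : Subgroup Q), Commute s z)
    (hn : ∀ n ∈ Subgroup.normalizer ((S : Subgroup Q) : Set Q), n * z * n⁻¹ = z) : False := by
  haveI : Fact (Nat.Prime 2) := ⟨Nat.prime_two⟩
  have hiso : ∀ g : Q, g * z * g⁻¹ ∈ (S : Subgroup Q) → g * z * g⁻¹ = z := by
    intro g hg
    by_contra hne
    set y := g * z * g⁻¹ with hy
    have hyz : Commute y z := hc y hg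
    set K := Subgroup.centralizer ({y} : Set Q) with hK
    have hTK : ((g • S : Sylow 2 Q) : Subgroup Q) ≤ K := by
      rintro _ ⟨s, hs, rfl⟩
      refine mem_cent.mpr ?_
      show (g * s * g⁻¹) * y = y * (g * s * g⁻¹)
      rw [hy, show g * s * g⁻¹ * (g * z * g⁻¹) = g * (s * z) * g⁻¹ by group, (hc s hs).eq]
      group
    obtain ⟨U, hU⟩ :=
      (S.isPGroup'.comap_of_injective K.subtype K.subtype_injective).exists_le_sylow
    obtain ⟨c, hc'⟩ := MulAction.exists_smul_eq K ((g • S).subtype hTK) U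
    have key : ∀ w ∈ (S : Subgroup Q), w ∈ K →
        w ∈ ((((c : Q) * g) • S : Sylow 2 Q) : Subgroup Q) := by
      intro w hw hwK
      have h1 : (⟨w, hwK⟩ : K) ∈ ((c • (g • S).subtype hTK : Sylow 2 K) : Subgroup K) :=
        hc'.symm ▸ hU hw
      obtain ⟨t, ht, htw⟩ := h1
      rw [mul_smul]
      exact ⟨(t : Q), ht, congrArg Subtype.val htw⟩
    have h1 := key y hg (mem_cent.mpr (Commute.refl y))
    have h2 := key z hzS (mem_cent.mpr hyz.symm)
    have hS := h.eq_of_pair hz (conj_sq hz) hz1 (conj_ne_one hz1) (Ne.symm hne) hzS hg h2 h1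
    have h3 := hn _ (Sylow.smul_eq_iff_mem_normalizer.mp hS.symm)
    apply hne
    calc y = (c : Q) * y * (c : Q)⁻¹ := by rw [(mem_cent.mp c.2).eq, mul_inv_cancel_right]
      _ = (c : Q) * g * z * ((c : Q) * g)⁻¹ := by rw [hy]; group
      _ = z := h3
  have hz2 := Invol.orderOf_two_of_mul_self hz hz1
  have hcore := ZStar.commutatorsInCore_of_isolated (Invol.isolated_of_sylow S hz2 hzS hiso)
  refine h.not_all_commute hz hz1 fun g => ?_
  have h1 := hcore g
  rw [h.odd, Subgroup.mem_bot, mul_inv_eq_one, mul_inv_eq_iff_eq_mul] at h1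
  exact h1.symm

theorem exists_central (S : Sylow 2 Q) :
    ∃ z ∈ (S : Subgroup Q), z * z = 1 ∧ z ≠ 1 ∧ ∀ s ∈ (S : Subgroup Q), Commute s z := by
  haveI : Fact (Nat.Prime 2) := ⟨Nat.prime_two⟩
  haveI : Nontrivial (S : Subgroup Q) := by
    refine (Subgroup.nontrivial_iff_ne_bot _).mpr fun he => h.ns ?_
    haveI : (S : Subgroup Q).Normal := he ▸ inferInstance
    exact isSolvable_of_sylow_normal S
  haveI := S.isPGroup'.center_nontrivial
  obtain ⟨k, hk⟩ := IsPGroup.iff_card.mp (S.isPGroup'.to_subgroup (Subgroup.center (S : Subgroup Q)))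
  have h2 : 2 ∣ Nat.card (Subgroup.center (S : Subgroup Q)) := by
    rw [hk]
    refine dvd_pow_self 2 ?_
    rintro rfl
    have := Finite.one_lt_card (α := Subgroup.center (S : Subgroup Q))
    rw [hk, pow_zero] at this
    omega
  obtain ⟨z, hz⟩ := exists_prime_orderOf_dvd_card' (G := Subgroup.center (S : Subgroup Q)) 2 h2
  refine ⟨((z : (S : Subgroup Q)) : Q), (z : (S : Subgroup Q)).2, ?_, ?_, fun s hs => ?_⟩
  · have h3 := pow_orderOf_eq_one z
    rw [hz, pow_two] at h3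
    exact congrArg (fun w : Subgroup.center (S : Subgroup Q) => ((w : (S : Subgroup Q)) : Q)) h3
  · intro e
    rw [show z = 1 from Subtype.ext (Subtype.ext e), orderOf_one] at hz
    omega
  · exact congrArg Subtype.val (Subgroup.mem_center_iff.mp z.2 ⟨s, hs⟩)

theorem exists_outside {S : Sylow 2 Q} {z : Q} (hzS : z ∈ (S : Subgroup Q)) (hz1 : z ≠ 1) :
    ∃ g : Q, g * z * g⁻¹ ∉ (S : Subgroup Q) := by
  by_contra hall
  push Not at hall
  have hle : Subgroup.normalClosure ({z} : Set Q) ≤ (S : Subgroup Q) := by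
    rw [Subgroup.normalClosure, Subgroup.closure_le]
    intro x hx
    obtain ⟨y, hy, hyx⟩ := Group.mem_conjugatesOfSet_iff.mp hx
    rw [Set.mem_singleton_iff] at hy
    subst hy
    obtain ⟨g, rfl⟩ := isConj_iff.mp hyx
    exact hall g
  have h1 := Fitting.le_pCore (inferInstance : (Subgroup.normalClosure ({z} : Set Q)).Normal)
    (S.isPGroup'.to_le hle)
  rw [h.core] at h1
  exact hz1 (Subgroup.mem_bot.mp (h1 (Subgroup.subset_normalClosure (Set.mem_singleton z))))

/-- Good involutions with the orbit of the Sylow subgroup give a bad one. -/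
theorem exists_bad {S : Sylow 2 Q} {i : Q} (hi : i * i = 1) (hi1 : i ≠ 1)
    (hiS : i ∈ (S : Subgroup Q)) (hg : Good S i) (hf : Fix S i) :
    ∃ v ∈ (S : Subgroup Q), v * v = 1 ∧ v ≠ 1 ∧ ¬ Good S v := by
  haveI : Fact (Nat.Prime 2) := ⟨Nat.prime_two⟩
  have hnc : ¬ ∀ s ∈ (S : Subgroup Q), Commute s i := fun hc =>
    h.not_fixed_central hi hi1 hiS hc fun n hn => by
      obtain ⟨s, hs, e⟩ := hf n hn
      rw [e, (hc s hs).eq, mul_inv_cancel_right]
  obtain ⟨z, hzS, hz, hz1, hzc⟩ := h.exists_central S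
  obtain ⟨g, hgz⟩ := h.exists_outside hzS hz1
  set x := g * z * g⁻¹ with hx
  have hix : ¬ IsConj i x := by
    intro hc
    obtain ⟨a, ha⟩ := isConj_iff.mp hc
    have e : i = a⁻¹ * g * z * (a⁻¹ * g)⁻¹ := by
      rw [show i = a⁻¹ * (a * i * a⁻¹) * a by group, ha, hx]; group
    set b := a⁻¹ * g with hb
    have hle : ((b • S : Sylow 2 Q) : Subgroup Q) ≤
        Subgroup.normalizer ((S : Subgroup Q) : Set Q) := by
      rintro _ ⟨s, hs, rfl⟩
      refine hg (mem_cent.mpr ?_)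
      show b * s * b⁻¹ * i = i * (b * s * b⁻¹)
      rw [e, show b * s * b⁻¹ * (b * z * b⁻¹) = b * (s * z) * b⁻¹ by group, (hzc s hs).eq]
      group
    have heq : b • S = S := by
      refine Sylow.ext (((b • S : Sylow 2 Q).is_maximal' S.isPGroup' ?_).symm)
      intro y hy
      exact SmallPPart.mem_sylow_of_mem_normalizer S (two_pow_of_mem (b • S).isPGroup' hy) (hle hy)
    obtain ⟨s, hs, es⟩ := hf b⁻¹ (inv_mem (Sylow.smul_eq_iff_mem_normalizer.mp heq))
    have hzs : z = s * i * s⁻¹ := by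
      rw [← es, e]; group
    refine hnc fun t ht => ?_
    have : i = z := by
      calc i = s⁻¹ * z * s := by rw [hzs]; group
        _ = z := by rw [((hzc s hs).symm.inv_right).symm.eq]; group
    exact this ▸ hzc t ht
  have hi2 := Invol.orderOf_two_of_mul_self hi hi1
  have hx2 := Invol.orderOf_two_of_mul_self (conj_sq (g := g) hz) (conj_ne_one hz1)
  obtain ⟨w, hw, hwi, hwx⟩ := Invol.exists_common_commuting_invol hi2 hx2
    (Invol.even_of_not_isConj hi2 hx2 hix)
  have hww := Invol.mul_self_of_orderOf_two hw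
  have hwS := h.mem_of_normalizer hww (hg (mem_cent.mpr hwi))
  exact ⟨w, hwS, hww, Invol.ne_one_of_orderOf_two hw, fun hgw =>
    hgz (h.mem_of_normalizer (conj_sq hz) (hgw (mem_cent.mpr hwx.symm)))⟩

theorem good_conj {S : Sylow 2 Q} {a n : Q}
    (hn : n ∈ Subgroup.normalizer ((S : Subgroup Q) : Set Q)) (hg : Good S a) :
    Good S (n * a * n⁻¹) := by
  intro x hx
  have h1 : n⁻¹ * x * n ∈ Subgroup.centralizer ({a} : Set Q) := by
    refine mem_cent.mpr ?_
    show n⁻¹ * x * n * a = a * (n⁻¹ * x * n)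
    rw [show n⁻¹ * x * n * a = n⁻¹ * (x * (n * a * n⁻¹)) * n by group, (mem_cent.mp hx).eq]
    group
  have h2 := mul_mem (mul_mem hn (hg h1)) (inv_mem hn)
  rwa [show n * (n⁻¹ * x * n) * n⁻¹ = x by group] at h2

theorem exists_moving {S : Sylow 2 Q} {z : Q} (hz : z * z = 1) (hz1 : z ≠ 1)
    (hzS : z ∈ (S : Subgroup Q)) (hc : ∀ s ∈ (S : Subgroup Q), Commute s z) :
    ∃ u ∈ Subgroup.normalizer ((S : Subgroup Q) : Set Q), Odd (orderOf u) ∧ u * z * u⁻¹ ≠ z := by
  by_contra hno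
  push Not at hno
  refine h.not_fixed_central hz hz1 hzS hc fun n hn => ?_
  have h1 : n ∈ Subgroup.centralizer ({z} : Set Q) := by
    refine mem_of_parts _ n (fun m hm => mem_cent.mpr (hc _ ?_)) (fun m hm => mem_cent.mpr ?_)
    · haveI : Fact (Nat.Prime 2) := ⟨Nat.prime_two⟩
      exact SmallPPart.mem_sylow_of_mem_normalizer S hm (pow_mem hn m)
    · exact mul_inv_eq_iff_eq_mul.mp (hno _ (pow_mem hn m) hm)
  rw [(mem_cent.mp h1).eq, mul_inv_cancel_right]

/-- A four-group of `S` centralizing a bad involution and not containing it. -/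
theorem exists_four {S : Sylow 2 Q} {v : Q} (hv : v * v = 1) (hv1 : v ≠ 1)
    (hvS : v ∈ (S : Subgroup Q)) (hb : ¬ Good S v) :
    ∃ a b : Q, a ∈ (S : Subgroup Q) ∧ b ∈ (S : Subgroup Q) ∧ a * a = 1 ∧ b * b = 1 ∧ a ≠ 1 ∧
      b ≠ 1 ∧ a ≠ b ∧ Commute a b ∧ Commute a v ∧ Commute b v ∧ a ≠ v ∧ b ≠ v ∧ a * b ≠ v := by
  have hnorm : ∀ n ∈ Subgroup.normalizer ((S : Subgroup Q) : Set Q), ∀ s ∈ (S : Subgroup Q),
      n * s * n⁻¹ ∈ (S : Subgroup Q) := fun n hn s hs =>
    (Subgroup.mem_normalizer_iff.mp hn s).mp hs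
  have hcen : ∀ n ∈ Subgroup.normalizer ((S : Subgroup Q) : Set Q), ∀ z : Q,
      (∀ s ∈ (S : Subgroup Q), Commute s z) →
      ∀ s ∈ (S : Subgroup Q), Commute s (n * z * n⁻¹) := by
    intro n hn z hz s hs
    have h2 := hz _ (hnorm n⁻¹ (inv_mem hn) s hs)
    show s * (n * z * n⁻¹) = n * z * n⁻¹ * s
    rw [show s * (n * z * n⁻¹) = n * (n⁻¹ * s * n⁻¹⁻¹ * z) * n⁻¹ by group, h2.eq]
    group
  by_cases hvc : ∀ s ∈ (S : Subgroup Q), Commute s v
  · obtain ⟨u, hu, huo, huv⟩ := h.exists_moving hv hv1 hvS hvc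
    set v1 := u * v * u⁻¹ with hv1def
    set v2 := u * v1 * u⁻¹ with hv2def
    have hv1S : v1 ∈ (S : Subgroup Q) := hnorm u hu v hvS
    have hv2S : v2 ∈ (S : Subgroup Q) := hnorm u hu v1 hv1S
    have hc1 := hcen u hu v hvc
    have hc2 := hcen u hu v1 hc1
    have h21 : v2 ≠ v1 := fun e => huv (by
      calc v1 = u⁻¹ * v2 * u := by rw [hv2def]; group
        _ = v := by rw [e, hv1def]; group)
    have h20 : v2 ≠ v := by
      intro e
      have h2 : u ^ 2 ∈ Subgroup.centralizer ({v} : Set Q) := by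
        refine mem_cent.mpr (mul_inv_eq_iff_eq_mul.mp ?_)
        calc u ^ 2 * v * (u ^ 2)⁻¹ = v2 := by rw [hv2def, hv1def, pow_two]; group
          _ = v := e
      obtain ⟨m, hm⟩ := huo
      have h3 := pow_mem h2 (m + 1)
      rw [← pow_mul, show 2 * (m + 1) = orderOf u + 1 by omega, pow_succ, pow_orderOf_eq_one,
        one_mul] at h3
      exact huv (by rw [hv1def, (mem_cent.mp h3).eq, mul_inv_cancel_right])
    refine ⟨v1, v2, hv1S, hv2S, conj_sq hv, conj_sq (conj_sq hv), conj_ne_one hv1,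
      conj_ne_one (conj_ne_one hv1), h21.symm, hc2 v1 hv1S, (hc1 v hvS).symm, (hc2 v hvS).symm,
      huv, h20, fun e => ?_⟩
    have hbad : ∀ w : Q, ¬ Good S w → ¬ Good S (u * w * u⁻¹) := fun w hw hgw => hw (by
      have := h.good_conj (inv_mem hu) hgw
      rwa [show u⁻¹ * (u * w * u⁻¹) * u⁻¹⁻¹ = w by group] at this)
    have e' : v2 = v1 * v := by
      rw [← e, ← mul_assoc, show v1 * v1 = 1 from conj_sq hv, one_mul]
    refine h.mul (conj_sq hv) hv (conj_ne_one hv1) hv1 huv (hc1 v hvS).symm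
      (h.cyc_of_bad hv1S (hbad v hb)) (h.cyc_of_bad hvS hb) ?_
    show h.Cyc (Subgroup.zpowers (v1 * v))
    rw [← e']
    exact h.cyc_of_bad hv2S (hbad v1 (hbad v hb))
  · obtain ⟨z, hzS, hz, hz1, hzc⟩ := h.exists_central S
    obtain ⟨u, hu, -, huz⟩ := h.exists_moving hz hz1 hzS hzc
    set z1 := u * z * u⁻¹ with hz1def
    have hz1S : z1 ∈ (S : Subgroup Q) := hnorm u hu z hzS
    have hc1 := hcen u hu z hzc
    refine ⟨z, z1, hzS, hz1S, hz, conj_sq hz, hz1, conj_ne_one hz1, huz.symm, hc1 z hzS,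
      (hzc v hvS).symm, (hc1 v hvS).symm, fun e => hvc (e ▸ hzc), fun e => hvc (e ▸ hc1),
      fun e => hvc (e ▸ fun s hs => (hzc s hs).mul_right (hc1 s hs))⟩

/-- The Sylow subgroup of the centralizer of a bad involution. -/
theorem sylow_centralizer {S : Sylow 2 Q} {v : Q} (hv : v * v = 1) (hv1 : v ≠ 1)
    (hvS : v ∈ (S : Subgroup Q)) (hb : ¬ Good S v) :
    ∃ U : Sylow 2 ↥(Subgroup.centralizer ({v} : Set Q)),
      (U : Subgroup ↥(Subgroup.centralizer ({v} : Set Q))) =
          (S : Subgroup Q).subgroupOf (Subgroup.centralizer ({v} : Set Q)) ∧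
        ∀ l : ↥(Subgroup.centralizer ({v} : Set Q)),
          l ∈ Subgroup.normalizer ((U : Subgroup ↥(Subgroup.centralizer ({v} : Set Q))) :
              Set ↥(Subgroup.centralizer ({v} : Set Q))) →
            (l : Q) ∈ Subgroup.normalizer ((S : Subgroup Q) : Set Q) := by
  haveI : Fact (Nat.Prime 2) := ⟨Nat.prime_two⟩
  set L := Subgroup.centralizer ({v} : Set Q) with hL
  obtain ⟨a, b, haS, -, ha, -, ha1, -, -, -, hav, -, hne, -, -⟩ := h.exists_four hv hv1 hvS hb
  have haL : a ∈ L := mem_cent.mpr hav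
  have hvL : v ∈ L := mem_cent.mpr (Commute.refl v)
  obtain ⟨U, hU⟩ := (S.isPGroup'.comap_of_injective L.subtype L.subtype_injective).exists_le_sylow
  obtain ⟨T, hT⟩ := (U.isPGroup'.map L.subtype).exists_le_sylow
  have hST : S = T := h.eq_of_pair ha hv ha1 hv1 hne haS hvS
    (hT ⟨⟨a, haL⟩, hU haS, rfl⟩) (hT ⟨⟨v, hvL⟩, hU hvS, rfl⟩)
  have heq : (U : Subgroup L) = (S : Subgroup Q).subgroupOf L :=
    le_antisymm (fun x hx => hST.symm ▸ hT ⟨x, hx, rfl⟩) hU
  refine ⟨U, heq, fun l hl => ?_⟩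
  refine Sylow.smul_eq_iff_mem_normalizer.mp (h.eq_of_pair hv (conj_sq ha) hv1 (conj_ne_one ha1)
    ?_ hvS ?_ ?_ (conj_mem_smul S (l : Q) haS)).symm
  · intro e
    exact hne (by
      calc a = (l : Q)⁻¹ * ((l : Q) * a * (l : Q)⁻¹) * l := by group
        _ = v := by rw [← e, mul_assoc, (mem_cent.mp l.2).symm.eq, inv_mul_cancel_left])
  · have h1 : l * ⟨a, haL⟩ * l⁻¹ ∈ (U : Subgroup L) :=
      (Subgroup.mem_normalizer_iff.mp hl _).mp (hU haS)
    rw [heq] at h1
    exact h1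
  · have h1 : (l : Q) * v * (l : Q)⁻¹ = v := by
      rw [(mem_cent.mp l.2).eq, mul_inv_cancel_right]
    exact h1 ▸ conj_mem_smul S (l : Q) hvS

/-- Centralizers of bad involutions are not solvable. -/
theorem not_solvable_centralizer {S : Sylow 2 Q} {v : Q} (hv : v * v = 1) (hv1 : v ≠ 1)
    (hvS : v ∈ (S : Subgroup Q)) (hb : ¬ Good S v) :
    ¬ Group.IsSolvable ↥(Subgroup.centralizer ({v} : Set Q)) := by
  haveI : Fact (Nat.Prime 2) := ⟨Nat.prime_two⟩
  intro hs
  set L := Subgroup.centralizer ({v} : Set Q) with hL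
  obtain ⟨a, b, haS, hbS, ha, hb2, ha1, hb1, hab, hcab, hav, hbv, hane, hbne, habne⟩ :=
    h.exists_four hv hv1 hvS hb
  obtain ⟨U, hUeq, hUn⟩ := h.sylow_centralizer hv hv1 hvS hb
  haveI := Transfer.pPrimeCore_normal 2 L
  set O := pPrimeCore 2 L with hOdef
  set f := QuotientGroup.mk' O with hfdef
  have hf : Function.Surjective f := QuotientGroup.mk'_surjective O
  have hcop : (Nat.card f.ker).Coprime 2 := by
    rw [hfdef, QuotientGroup.ker_mk']; exact Transfer.pPrimeCore_coprime 2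
  haveI := hs
  have hCI : CI Q := fun S T hne => h.cyclic (h.meet S T hne)
  have huniq := sylow_eq_of_solvable ((hCI.subgroup L).map f hf)
    (PSolvable.pPrimeCore_eq_bot_of_ker hf (QuotientGroup.ker_mk' O)) inferInstance
  haveI : Subsingleton (Sylow 2 (L ⧸ O)) := ⟨huniq⟩
  have hnorm := PSolvable.map_normalizer_eq (p := 2) hf hcop U.isPGroup'
  have htop : Subgroup.normalizer ((((U : Subgroup L).map f : Subgroup (L ⧸ O))) : Set (L ⧸ O)) = ⊤ :=
    Subgroup.normalizer_eq_top_iff.mpr (Sylow.normal_of_subsingleton (U.mapSurjective hf))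
  rw [htop] at hnorm
  have hrange : ∀ o ∈ O, (o : Q) ∈ Subgroup.normalizer ((S : Subgroup Q) : Set Q) := by
    let A : Subgroup Q := Subgroup.closure {a, b}
    haveI : IsMulCommutative A := Subgroup.isMulCommutative_closure (by
      rintro x (rfl | rfl) y (rfl | rfl)
      · rfl
      · exact hcab
      · exact hcab.symm
      · rfl)
    have hsq : ∀ x ∈ A, x ^ 2 = 1 := by
      intro x hx
      induction hx using Subgroup.closure_induction with
      | mem x hx => rcases hx with rfl | rfl <;> rw [pow_two] <;> assumption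
      | one => exact one_pow 2
      | mul x y hx hy ihx ihy =>
        rw [(show Commute x y from congrArg Subtype.val
          (mul_comm' (⟨x, hx⟩ : A) ⟨y, hy⟩)).mul_pow, ihx, ihy, one_mul]
      | inv x _ ih => rw [inv_pow, ih, inv_one]
    have haA : a ∈ A := Subgroup.subset_closure (Set.mem_insert a {b})
    have hbA : b ∈ A := Subgroup.subset_closure (Set.mem_insert_of_mem a rfl)
    have hA : ¬ IsCyclic A := fun hc => hab (invol_eq_of_cyclic hc haA hbA ha hb2 ha1 hb1)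
    have hAS : A ≤ (S : Subgroup Q) ⊓ L := by
      rw [Subgroup.closure_le]
      rintro x (rfl | rfl)
      · exact Subgroup.mem_inf.mpr ⟨haS, mem_cent.mpr hav⟩
      · exact Subgroup.mem_inf.mpr ⟨hbS, mem_cent.mpr hbv⟩
    have hvA : v ∉ A := by
      intro hvA
      have hset : ∀ x ∈ A, x = 1 ∨ x = a ∨ x = b ∨ x = a * b := by
        intro x hx
        induction hx using Subgroup.closure_induction with
        | mem x hx => rcases hx with rfl | rfl <;> simp
        | one => simp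
        | mul x y _ _ ihx ihy =>
          have eba : b * a = a * b := hcab.eq.symm
          have p1 : a * (a * b) = b := by rw [← mul_assoc, ha, one_mul]
          have p2 : b * (a * b) = a := by rw [← mul_assoc, eba, mul_assoc, hb2, mul_one]
          have p3 : a * b * a = b := by rw [hcab.eq, mul_assoc, ha, mul_one]
          have p4 : a * b * b = a := by rw [mul_assoc, hb2, mul_one]
          have p5 : a * b * (a * b) = 1 := by rw [← mul_assoc, p3, hb2]
          rcases ihx with e | e | e | e <;> rcases ihy with e' | e' | e' | e' <;>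
            simp only [e, e', one_mul, mul_one, ha, hb2, eba, p1, p2, p3, p4, p5, true_or, or_true]
        | inv x hx ih =>
          rwa [inv_eq_of_mul_eq_one_right (show x * x = 1 by rw [← pow_two]; exact hsq x hx)]
      rcases hset v hvA with e | e | e | e
      exacts [hv1 e, hane e.symm, hbne e.symm, habne e.symm]
    set O' : Subgroup Q := O.map L.subtype with hO'
    have hAO : A ≤ Subgroup.normalizer (O' : Set Q) := fun x hx => by
      refine Subgroup.mem_normalizer_fintype fun y hy => ?_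
      obtain ⟨y, hy', rfl⟩ := hy
      exact ⟨⟨x, (Subgroup.mem_inf.mp (hAS hx)).2⟩ * y * ⟨x, (Subgroup.mem_inf.mp (hAS hx)).2⟩⁻¹,
        (inferInstance : O.Normal).conj_mem y hy' _, rfl⟩
    have hcard : (Nat.card A).Coprime (Nat.card O') := by
      obtain ⟨k, hk⟩ := IsPGroup.iff_card.mp (S.isPGroup'.to_le (hAS.trans inf_le_left))
      rw [hk, hO', Subgroup.card_map_of_injective L.subtype_injective]
      exact ((Transfer.pPrimeCore_coprime (G := L) 2).symm).pow_left k
    have hle : O' ≤ Subgroup.normalizer ((S : Subgroup Q) : Set Q) := by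
      refine Coprime.le_of_centralizer_le hA hAO hcard fun x hx hx1 y hy => ?_
      obtain ⟨hyO, hyx⟩ := Subgroup.mem_inf.mp hy
      obtain ⟨y, -, rfl⟩ := hyO
      have e1 : (y : Q) * x * (y : Q)⁻¹ = x := by
        rw [show (y : Q) * x = x * (y : Q) from (mem_cent.mp hyx).eq, mul_inv_cancel_right]
      have e2 : (y : Q) * v * (y : Q)⁻¹ = v := by
        rw [(mem_cent.mp y.2).eq, mul_inv_cancel_right]
      have hxS := (Subgroup.mem_inf.mp (hAS hx)).1
      exact Sylow.smul_eq_iff_mem_normalizer.mp (h.eq_of_pair hv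
        (by rw [← pow_two]; exact hsq x hx) hv1 hx1 (fun e => hvA (e ▸ hx)) hvS hxS
        (e2 ▸ conj_mem_smul S (y : Q) hvS) (e1 ▸ conj_mem_smul S (y : Q) hxS)).symm
    exact fun o ho => hle ⟨o, ho, rfl⟩
  refine hb fun x hx => ?_
  have h1 : f ⟨x, hx⟩ ∈ (Subgroup.normalizer ((U : Subgroup L) : Set L)).map f :=
    hnorm ▸ Subgroup.mem_top _
  obtain ⟨n, hn, e⟩ := h1
  have h2 : n⁻¹ * ⟨x, hx⟩ ∈ O := QuotientGroup.eq.mp e
  have h3 := mul_mem (hUn n hn) (hrange _ h2)
  rwa [← Subgroup.coe_mul, mul_inv_cancel_left] at h3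

/-- The complement of `S ∩ C(v)` in its normalizer inside `C(v)`. -/
theorem exists_local_complement {S : Sylow 2 Q} {v : Q} :
    ∃ K : Subgroup Q, Odd (Nat.card K) ∧ K ≤ Subgroup.centralizer ({v} : Set Q) ∧
      K ≤ Subgroup.normalizer ((S : Subgroup Q) : Set Q) ∧
      ∀ n ∈ Subgroup.centralizer ({v} : Set Q) ⊓ Subgroup.normalizer ((S : Subgroup Q) : Set Q),
        ∃ r ∈ (S : Subgroup Q) ⊓ Subgroup.centralizer ({v} : Set Q), ∃ k ∈ K, n = r * k := by
  haveI : Fact (Nat.Prime 2) := ⟨Nat.prime_two⟩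
  set L := Subgroup.centralizer ({v} : Set Q) with hL
  set N := Subgroup.normalizer ((S : Subgroup Q) : Set Q) with hN
  set NL := L ⊓ N with hNL
  have hNS : NL ≤ Subgroup.normalizer ((S : Subgroup Q) : Set Q) := inf_le_right
  have hodd : Odd ((S : Subgroup Q).relIndex NL) := by
    haveI : ((S : Subgroup Q).subgroupOf N).Normal :=
      Subgroup.normal_subgroupOf_of_le_normalizer le_rfl
    have h1 : Odd ((S : Subgroup Q).relIndex N) := by
      refine Odd.of_dvd_nat ?_ (Dvd.intro _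
        (Subgroup.relIndex_mul_index (Subgroup.le_normalizer (H := (S : Subgroup Q)))))
      exact Nat.odd_iff.mpr (Nat.two_dvd_ne_zero.mp S.not_dvd_index)
    refine h1.of_dvd_nat ?_
    have h2 := Subgroup.relIndex_dvd_index_of_normal ((S : Subgroup Q).subgroupOf N)
      (NL.subgroupOf N)
    rwa [Subgroup.relIndex_subgroupOf (inf_le_right : NL ≤ N)] at h2
  obtain ⟨K, hKN, hsup, -, hcard⟩ := Coprime.exists_complement_of_coprime hNS (by
    obtain ⟨k, hk⟩ := IsPGroup.iff_card.mp (S.isPGroup'.to_le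
      (inf_le_left : (S : Subgroup Q) ⊓ NL ≤ (S : Subgroup Q)))
    rw [hk]
    exact (Nat.coprime_two_left.mpr hodd).pow_left k)
  refine ⟨K, hcard ▸ hodd, hKN.trans inf_le_left, hKN.trans inf_le_right, fun n hn => ?_⟩
  have hKn : K ≤ Subgroup.normalizer (((S : Subgroup Q) ⊓ NL : Subgroup Q) : Set Q) :=
    Coprime.le_normalizer_inf_of_le (hKN.trans hNS) (hKN.trans Subgroup.le_normalizer)
  rw [← hsup, ← SetLike.mem_coe, Subgroup.coe_mul_of_right_le_normalizer_left _ _ hKn,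
    Set.mem_mul] at hn
  obtain ⟨r, hr, k, hk, rfl⟩ := hn
  exact ⟨r, Subgroup.mem_inf.mpr ⟨(Subgroup.mem_inf.mp hr).1,
    (Subgroup.mem_inf.mp (Subgroup.mem_inf.mp hr).2).1⟩, k, hk, rfl⟩

/-- The induction hypothesis at a bad involution. -/
def LocalStep : Prop :=
  ∀ (S : Sylow 2 Q) (v u : Q), v * v = 1 → v ≠ 1 → v ∈ (S : Subgroup Q) → ¬ Good S v →
    u * u = 1 → u ≠ 1 → u ≠ v → u ∈ (S : Subgroup Q) → Commute u v →
    ¬ h.Cyc (Subgroup.zpowers u) →
    (∀ n ∈ Subgroup.centralizer ({v} : Set Q) ⊓ Subgroup.normalizer ((S : Subgroup Q) : Set Q),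
      ∃ r ∈ (S : Subgroup Q) ⊓ Subgroup.centralizer ({v} : Set Q),
        n * u * n⁻¹ = r * u * r⁻¹) → False

/-- No good involution has the orbit of the Sylow subgroup. -/
theorem no_fixed (hB : h.LocalStep) {S : Sylow 2 Q} {i : Q} (hi : i * i = 1) (hi1 : i ≠ 1)
    (hiS : i ∈ (S : Subgroup Q)) (hg : Good S i) (hf : Fix S i) : False := by
  haveI : Fact (Nat.Prime 2) := ⟨Nat.prime_two⟩
  obtain ⟨v, hvS, hv, hv1, hb⟩ := h.exists_bad hi hi1 hiS hg hf
  obtain ⟨K, hKodd, hKv, hKS, hK⟩ := h.exists_local_complement (S := S) (v := v)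
  set P : Subgroup Q := (S : Subgroup Q) ⊓ Subgroup.centralizer (K : Set Q) with hP
  have hvP : v ∈ P := Subgroup.mem_inf.mpr ⟨hvS, fun k hk => (mem_cent.mp (hKv hk)).eq⟩
  have key : ∀ u ∈ P, u * u = 1 → u ≠ 1 → Commute u v → u = v := by
    intro u hu hu2 hu1 huv
    by_contra hne
    have hJ : ∀ w ∈ P, w * w = 1 → w ≠ 1 → Commute w v → w ≠ v →
        h.Cyc (Subgroup.zpowers w) := by
      intro w hw hw2 hw1 hwv hwne
      by_contra hJ
      refine hB S v w hv hv1 hvS hb hw2 hw1 hwne (Subgroup.mem_inf.mp hw).1 hwv hJ fun n hn => ?_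
      obtain ⟨r, hr, k, hk, rfl⟩ := hK n hn
      refine ⟨r, hr, ?_⟩
      have hkw : k * w = w * k := (Subgroup.mem_inf.mp hw).2 k hk
      rw [show r * k * w * (r * k)⁻¹ = r * (k * w * k⁻¹) * r⁻¹ by group, hkw,
        mul_inv_cancel_right]
    refine h.mul hu2 hv hu1 hv1 hne huv (hJ u hu hu2 hu1 huv hne) (h.cyc_of_bad hvS hb)
      (hJ (u * v) (mul_mem hu hvP) ?_ ?_ (huv.mul_left (Commute.refl v)) ?_)
    · rw [← pow_two, huv.mul_pow, pow_two, pow_two, hu2, hv, one_mul]
    · intro e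
      refine hne ?_
      calc u = u * (v * v) := by rw [hv, mul_one]
        _ = v := by rw [← mul_assoc, e, one_mul]
    · intro e
      exact hu1 (mul_eq_right.mp e)
  haveI : Nontrivial P :=
    ⟨⟨⟨v, hvP⟩, 1, fun e => hv1 (congrArg Subtype.val e)⟩⟩
  have hP2 : IsPGroup 2 P := S.isPGroup'.to_le inf_le_left
  haveI := hP2.center_nontrivial
  obtain ⟨k, hk⟩ := IsPGroup.iff_card.mp (hP2.to_subgroup (Subgroup.center P))
  have h2 : 2 ∣ Nat.card (Subgroup.center P) := by
    rw [hk]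
    refine dvd_pow_self 2 ?_
    rintro rfl
    have := Finite.one_lt_card (α := Subgroup.center P)
    rw [hk, pow_zero] at this
    omega
  obtain ⟨z, hz⟩ := exists_prime_orderOf_dvd_card' (G := Subgroup.center P) 2 h2
  have hz2 : ((z : P) : Q) * ((z : P) : Q) = 1 := by
    have h3 := pow_orderOf_eq_one z
    rw [hz, pow_two] at h3
    exact congrArg (fun w : Subgroup.center P => ((w : P) : Q)) h3
  have hz1 : ((z : P) : Q) ≠ 1 := by
    intro e
    rw [show z = 1 from Subtype.ext (Subtype.ext e), orderOf_one] at hz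
    omega
  have hzc : ∀ w : P, Commute (w : Q) ((z : P) : Q) := fun w =>
    congrArg Subtype.val (Subgroup.mem_center_iff.mp z.2 w)
  have hzv := key _ (z : P).2 hz2 hz1 (hzc ⟨v, hvP⟩).symm
  have huniq : ∀ u ∈ P, u * u = 1 → u ≠ 1 → u = v := fun u hu hu2 hu1 =>
    key u hu hu2 hu1 (hzv ▸ hzc ⟨u, hu⟩)
  -- a conjugate of `i` centralizes `K`
  have hcopK : (Nat.card K).Coprime (Nat.card (S : Subgroup Q)) := by
    obtain ⟨j, hj⟩ := IsPGroup.iff_card.mp S.isPGroup'
    rw [hj]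
    exact (Nat.coprime_two_right.mpr hKodd).pow_right j
  haveI : Group.IsNilpotent (S : Subgroup Q) := S.isPGroup'.isNilpotent
  set C := Subgroup.centralizer ({i} : Set Q) with hC
  obtain ⟨s, hs, hfix⟩ := Coprime.exists_fixed_of_coprime hKS hcopK (Or.inr inferInstance)
    ((1 : Q) : Q ⧸ C) fun a ha => by
      obtain ⟨s, hs, e⟩ := hf a (hKS ha)
      refine ⟨s, hs, ?_⟩
      rw [MulAction.Quotient.smul_coe, MulAction.Quotient.smul_coe, smul_eq_mul, smul_eq_mul,
        mul_one, mul_one, QuotientGroup.eq, hC, mem_cent]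
      refine mul_inv_eq_iff_eq_mul.mp ?_
      calc a⁻¹ * s * i * (a⁻¹ * s)⁻¹ = a⁻¹ * (s * i * s⁻¹) * a := by group
        _ = i := by rw [← e]; group
  have hiK : s * i * s⁻¹ ∈ P := by
    refine Subgroup.mem_inf.mpr ⟨mul_mem (mul_mem hs hiS) (inv_mem hs), fun a ha => ?_⟩
    have h1 := hfix a ha
    rw [← mul_smul, MulAction.Quotient.smul_coe, MulAction.Quotient.smul_coe, smul_eq_mul,
      smul_eq_mul, mul_one, mul_one, eq_comm, QuotientGroup.eq, hC, mem_cent] at h1
    show a * (s * i * s⁻¹) = s * i * s⁻¹ * a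
    calc a * (s * i * s⁻¹) = s * (s⁻¹ * (a * s) * i) * s⁻¹ := by group
      _ = s * (i * (s⁻¹ * (a * s))) * s⁻¹ := by rw [h1.eq]
      _ = s * i * s⁻¹ * a := by group
  exact hb (huniq _ hiK (conj_sq hi) (conj_ne_one hi1) ▸
    h.good_conj (Subgroup.le_normalizer hs) hg)

/-- A normal subgroup containing the elements of odd order and the centralizers of bad
involutions is everything. -/
theorem eq_top (hB : h.LocalStep) (C : Subgroup Q) [C.Normal]
    (hodd : ∀ x : Q, Odd (orderOf x) → x ∈ C)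
    (hA : ∀ (S : Sylow 2 Q) (v : Q), v * v = 1 → v ≠ 1 → v ∈ (S : Subgroup Q) → ¬ Good S v →
      Subgroup.centralizer ({v} : Set Q) ≤ C) : C = ⊤ := by
  haveI : Fact (Nat.Prime 2) := ⟨Nat.prime_two⟩
  by_contra hne
  obtain ⟨S⟩ : Nonempty (Sylow 2 Q) := inferInstance
  obtain ⟨s, hsS, hsC⟩ : ∃ s ∈ (S : Subgroup Q), s ∉ C := by
    by_contra hall
    push Not at hall
    apply hne
    rw [eq_top_iff]
    intro n _
    refine mem_of_parts C n (fun m hm => ?_) (fun m hm => hodd _ hm)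
    obtain ⟨k, hk⟩ := hm
    have hp : IsPGroup 2 (Subgroup.zpowers (n ^ m)) :=
      IsPGroup.of_card (n := k) (by rw [Nat.card_zpowers, hk])
    obtain ⟨T, hT⟩ := hp.exists_le_sylow
    obtain ⟨g, hg⟩ := MulAction.exists_smul_eq Q S T
    obtain ⟨w, hw, hwe⟩ : n ^ m ∈ ((g • S : Sylow 2 Q) : Subgroup Q) :=
      hg ▸ hT (Subgroup.mem_zpowers _)
    rw [← hwe]
    exact (inferInstance : C.Normal).conj_mem w (hall w hw) g
  set N := Subgroup.normalizer ((S : Subgroup Q) : Set Q) with hN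
  have hSodd : Odd ((S : Subgroup Q).relIndex N) := by
    refine Odd.of_dvd_nat ?_ (Dvd.intro _
      (Subgroup.relIndex_mul_index (Subgroup.le_normalizer (H := (S : Subgroup Q)))))
    exact Nat.odd_iff.mpr (Nat.two_dvd_ne_zero.mp S.not_dvd_index)
  obtain ⟨H, hHN, hsup, -, hcard⟩ := Coprime.exists_complement_of_coprime
    (N := (S : Subgroup Q)) (S := N) le_rfl (by
    obtain ⟨k, hk⟩ := IsPGroup.iff_card.mp (S.isPGroup'.to_le
      (inf_le_left : (S : Subgroup Q) ⊓ N ≤ (S : Subgroup Q)))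
    rw [hk]
    exact (Nat.coprime_two_left.mpr hSodd).pow_left k)
  rw [inf_eq_left.mpr Subgroup.le_normalizer] at hsup
  have hHodd : Odd (Nat.card H) := hcard ▸ hSodd
  have hHC : H ≤ C := fun x hx => hodd x (hHodd.of_dvd_nat (H.orderOf_dvd_natCard hx))
  have hcop : (Nat.card H).Coprime (Nat.card (S : Subgroup Q)) := by
    obtain ⟨j, hj⟩ := IsPGroup.iff_card.mp S.isPGroup'
    rw [hj]
    exact (Nat.coprime_two_right.mpr hHodd).pow_right j
  haveI : Group.IsNilpotent (S : Subgroup Q) := S.isPGroup'.isNilpotent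
  obtain ⟨c, hc, hcs⟩ := Coprime.exists_centralizer_mem_coset (A := H) (K := (S : Subgroup Q))
    hHN hcop (Or.inr inferInstance) (N := (S : Subgroup Q) ⊓ C) inf_le_left
    (Coprime.le_normalizer_inf_of_le hHN Subgroup.le_normalizer_of_normal) hsS fun a ha => by
      refine Subgroup.mem_inf.mpr ⟨mul_mem (inv_mem hsS)
        ((Subgroup.mem_normalizer_iff.mp (hHN ha) s).mp hsS), ?_⟩
      have h1 := (inferInstance : C.Normal).conj_mem a (hHC ha) s⁻¹
      rw [inv_inv] at h1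
      rw [show s⁻¹ * (a * s * a⁻¹) = s⁻¹ * a * s * a⁻¹ by group]
      exact mul_mem h1 (inv_mem (hHC ha))
  obtain ⟨hcS, hcH⟩ := Subgroup.mem_inf.mp hc
  have hcC : c ∉ C := fun hcC => hsC (by
    have h1 : s = c * (s⁻¹ * c)⁻¹ := by group
    rw [h1]
    exact mul_mem hcC (inv_mem (Subgroup.mem_inf.mp hcs).2))
  obtain ⟨k, hk⟩ := two_pow_of_mem S.isPGroup' hcS
  rcases k with _ | k
  · rw [pow_zero, orderOf_eq_one_iff] at hk
    exact hcC (hk ▸ one_mem C)
  set a := c ^ 2 ^ k with ha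
  have ha2 : a * a = 1 := by
    rw [ha, ← pow_add, ← two_mul, ← pow_succ', ← hk, pow_orderOf_eq_one]
  have ha1 : a ≠ 1 := fun e => by
    have h1 := orderOf_dvd_of_pow_eq_one e
    rw [hk] at h1
    have := Nat.le_of_dvd (by positivity) h1
    rw [pow_succ] at this
    linarith [Nat.one_le_two_pow (n := k)]
  have haS : a ∈ (S : Subgroup Q) := pow_mem hcS _
  by_cases hg : Good S a
  · refine h.no_fixed hB ha2 ha1 haS hg fun n hn => ?_
    have hn' : n ∈ N := hn
    rw [← hsup, ← SetLike.mem_coe, Subgroup.coe_mul_of_right_le_normalizer_left _ _ hHN,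
      Set.mem_mul] at hn'
    obtain ⟨r, hr, x, hx, rfl⟩ := hn'
    refine ⟨r, hr, ?_⟩
    have h1 : Commute x a := (show Commute x c from hcH x hx).pow_right _
    rw [show r * x * a * (r * x)⁻¹ = r * (x * a * x⁻¹) * r⁻¹ by group, h1.eq,
      mul_inv_cancel_right]
  · exact hcC (hA S a ha2 ha1 haS hg (mem_cent.mpr (Commute.refl c |>.pow_right _)))

end Shadow

end CfsgLib.CyclicMeet
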